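import Groth.Agent.Lib.AlgSt.Axes.Scheme
import Mathlib.AlgebraicGeometry.Morphisms.SchemeTheoreticallyDominant
import Mathlib.AlgebraicGeometry.PullbackCarrier
import Mathlib.Algebra.Polynomial.Laurent
import Mathlib.CategoryTheory.Comma.Over.Basic

/-!
# Products of the axes with a scheme over a base
-/

set_option backward.isDefEq.respectTransparency false
set_option backward.isDefEq.respectTransparency.types false

universe u

open CategoryTheory CategoryTheory.Limits AlgebraicGeometry Polynomial TensorProduct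

namespace GrothLib.Axes

/-- The morphism to the point. -/
noncomputable def toZ (P : Scheme.{u}) : P ⟶ P₀ := specULiftZIsTerminal.from P

theorem toZ_ext {P : Scheme.{u}} (f g : P ⟶ P₀) : f = g := specULiftZIsTerminal.hom_ext f g

variable {S : Scheme.{u}}

/-- The product of a scheme over `S` with a scheme. -/
noncomputable def TP (T : Over S) (P : Scheme.{u}) : Over S :=
  Over.mk (pullback.fst (toZ T.left) (toZ P) ≫ T.hom)

/-- The first projection. -/
noncomputable def pr (T : Over S) (P : Scheme.{u}) : TP T P ⟶ T := Over.homMk (pullback.fst _ _) rfl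

/-- The second projection. -/
noncomputable def sn (T : Over S) (P : Scheme.{u}) : (TP T P).left ⟶ P := pullback.snd _ _

theorem tp_ext {T : Over S} {P : Scheme.{u}} {Z : Over S} {f g : Z ⟶ TP T P}
    (h₁ : f ≫ pr T P = g ≫ pr T P) (h₂ : f.left ≫ sn T P = g.left ≫ sn T P) : f = g :=
  Over.OverMorphism.ext (pullback.hom_ext congr($(h₁).left) h₂)

/-- A morphism to the product. -/
noncomputable def lift {T : Over S} {P : Scheme.{u}} {Z : Over S} (a : Z ⟶ T) (b : Z.left ⟶ P) : Z ⟶ TP T P :=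
  Over.homMk (pullback.lift a.left b (toZ_ext _ _)) (by
    change pullback.lift a.left b _ ≫ pullback.fst _ _ ≫ T.hom = Z.hom
    rw [pullback.lift_fst_assoc]; exact Over.w a)

@[reassoc]
theorem lift_pr {T : Over S} {P : Scheme.{u}} {Z : Over S} (a : Z ⟶ T) (b : Z.left ⟶ P) :
    lift a b ≫ pr T P = a := Over.OverMorphism.ext (pullback.lift_fst _ _ _)

@[reassoc]
theorem lift_sn {T : Over S} {P : Scheme.{u}} {Z : Over S} (a : Z ⟶ T) (b : Z.left ⟶ P) :
    (lift a b).left ≫ sn T P = b := pullback.lift_snd _ _ _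

/-- The product with a morphism. -/
noncomputable def mp (T : Over S) {P Q : Scheme.{u}} (f : P ⟶ Q) : TP T P ⟶ TP T Q :=
  lift (pr T P) (sn T P ≫ f)

@[reassoc]
theorem mp_pr (T : Over S) {P Q : Scheme.{u}} (f : P ⟶ Q) : mp T f ≫ pr T Q = pr T P := lift_pr _ _

@[reassoc]
theorem mp_sn (T : Over S) {P Q : Scheme.{u}} (f : P ⟶ Q) : (mp T f).left ≫ sn T Q = sn T P ≫ f := lift_sn _ _

@[reassoc]
theorem mp_comp (T : Over S) {P Q R : Scheme.{u}} (f : P ⟶ Q) (g : Q ⟶ R) : mp T f ≫ mp T g = mp T (f ≫ g) := by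
  refine tp_ext (by simp [mp_pr]) ?_
  rw [Over.comp_left, Category.assoc, mp_sn, ← Category.assoc, mp_sn, mp_sn, Category.assoc]

theorem mp_id (T : Over S) (P : Scheme.{u}) : mp T (𝟙 P) = 𝟙 _ := tp_ext (by simp [mp_pr]) (by simp [mp_sn])

theorem mp_eq_of_eq (T : Over S) {P Q : Scheme.{u}} {f g : P ⟶ Q} (h : f = g) : mp T f = mp T g := by rw [h]

/-- Functoriality in the base. -/
noncomputable def bc {T' T : Over S} (g : T' ⟶ T) (P : Scheme.{u}) : TP T' P ⟶ TP T P :=
  lift (pr T' P ≫ g) (sn T' P)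

@[reassoc]
theorem bc_pr {T' T : Over S} (g : T' ⟶ T) (P : Scheme.{u}) : bc g P ≫ pr T P = pr T' P ≫ g := lift_pr _ _

@[reassoc]
theorem bc_sn {T' T : Over S} (g : T' ⟶ T) (P : Scheme.{u}) : (bc g P).left ≫ sn T P = sn T' P := lift_sn _ _

theorem mp_bc {T' T : Over S} (g : T' ⟶ T) {P Q : Scheme.{u}} (f : P ⟶ Q) :
    mp T' f ≫ bc g Q = bc g P ≫ mp T f :=
  tp_ext (by simp [mp_pr, mp_pr_assoc, bc_pr]) (by simp [mp_sn, mp_sn_assoc, bc_sn, bc_sn_assoc])

/-- The section at a point of the second factor. -/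
noncomputable def sec (T : Over S) {P : Scheme.{u}} (p : P₀ ⟶ P) : T ⟶ TP T P := lift (𝟙 T) (toZ T.left ≫ p)

@[reassoc]
theorem sec_pr (T : Over S) {P : Scheme.{u}} (p : P₀ ⟶ P) : sec T p ≫ pr T P = 𝟙 T := lift_pr _ _

theorem sec_mp (T : Over S) {P Q : Scheme.{u}} (p : P₀ ⟶ P) (f : P ⟶ Q) : sec T p ≫ mp T f = sec T (p ≫ f) :=
  tp_ext (by simp [mp_pr, sec, lift_pr]) (by simp [mp_sn, sec, lift_sn, lift_sn_assoc])

theorem isPullback_mp (T : Over S) {P Q : Scheme.{u}} (f : P ⟶ Q) :
    IsPullback (sn T P) (mp T f).left f (sn T Q) := by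
  refine IsPullback.of_bot (v₂₁ := pullback.fst (toZ T.left) (toZ Q)) (v₂₂ := toZ Q) (h₃₁ := toZ T.left) ?_
    (mp_sn T f).symm (IsPullback.of_hasPullback (toZ T.left) (toZ Q)).flip
  rw [show (mp T f).left ≫ pullback.fst (toZ T.left) (toZ Q) = pullback.fst (toZ T.left) (toZ P) from
      congr($(mp_pr T f).left), show f ≫ toZ Q = toZ P from toZ_ext _ _]
  exact (IsPullback.of_hasPullback (toZ T.left) (toZ P)).flip

theorem isOpenImmersion_mp (T : Over S) {P Q : Scheme.{u}} (f : P ⟶ Q) [IsOpenImmersion f] :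
    IsOpenImmersion (mp T f).left :=
  MorphismProperty.of_isPullback (P := @IsOpenImmersion) (isPullback_mp T f) ‹_›

theorem range_mp (T : Over S) {P Q : Scheme.{u}} (f : P ⟶ Q) (z : ↥(TP T Q).left) :
    z ∈ Set.range (mp T f).left ↔ sn T Q z ∈ Set.range f := by
  constructor
  · rintro ⟨w, rfl⟩
    refine ⟨sn T P w, ?_⟩
    rw [← Scheme.Hom.comp_apply, ← Scheme.Hom.comp_apply, mp_sn]
  · rintro ⟨p, hp⟩
    obtain ⟨w, -, hw⟩ := Scheme.exists_preimage_of_isPullback (isPullback_mp T f) p z hp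
    exact ⟨w, hw⟩

section Axes

variable (ι : Type) [DecidableEq ι] [Finite ι] (T : Over S)

/-- The axes over `T`. -/
noncomputable abbrev X : Over S := TP T (X₀ ι)

/-- The axes with doubled origin over `T`. -/
noncomputable abbrev D : Over S := TP T (D₀ ι)

/-- The complement of the origin over `T`. -/
noncomputable abbrev W : Over S := TP T (W₀.{u} ι).toScheme

/-- The charts over `T`. -/
noncomputable abbrev chart (b : Bool) : X ι T ⟶ D ι T := mp T (chart₀ b)

/-- The inclusion of the complement of the origin. -/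
noncomputable abbrev inclW : W ι T ⟶ X ι T := mp T (W₀.{u} ι).ι

theorem isOpenImmersion_chart (b : Bool) : IsOpenImmersion (chart ι T b).left := isOpenImmersion_mp T _

theorem cover_chart (z : ↥(D ι T).left) : ∃ b y, (chart ι T b).left y = z := by
  obtain ⟨b, p, hp⟩ := cover_chart₀ (sn T (D₀ ι) z)
  exact ⟨b, (range_mp T _ z).2 ⟨p, hp⟩⟩

theorem inclW_chart (b c : Bool) : inclW ι T ≫ chart ι T b = inclW ι T ≫ chart ι T c := by
  rw [mp_comp, mp_comp, W₀_chart₀ b c]

theorem overlap_chart {Z : Over S} (g g' : Z ⟶ X ι T) (h : g ≫ chart ι T false = g' ≫ chart ι T true) :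
    g = g' ∧ ∃ l, l ≫ inclW ι T = g := by
  have h1 : g ≫ pr T (X₀ ι) = g' ≫ pr T (X₀ ι) := by
    simpa [mp_pr] using congrArg (fun k => k ≫ pr T (D₀ ι)) h
  have h2 : (g.left ≫ sn T (X₀ ι)) ≫ chart₀ false = (g'.left ≫ sn T (X₀ ι)) ≫ chart₀ true := by
    simpa [mp_sn] using congrArg (fun k => k.left ≫ sn T (D₀ ι)) h
  obtain ⟨e, l, hl⟩ := overlap_chart₀ _ _ h2
  exact ⟨tp_ext h1 e, lift (g ≫ pr T (X₀ ι)) l,
    tp_ext (by rw [Category.assoc, mp_pr, lift_pr]) (by rw [Over.comp_left, Category.assoc, mp_sn, lift_sn_assoc, hl])⟩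

theorem mono_inclW : Mono (inclW ι T).left := have := isOpenImmersion_mp T (W₀.{u} ι).ι; inferInstance

end Axes

attribute [-instance] ULift.module ULift.module' ULift.smulLeft

theorem isScalarTower_Z₀ (B : Type u) [CommRing B] [Algebra Z₀.{u} B] : IsScalarTower Z₀.{u} Z₀.{u} B :=
  IsScalarTower.of_algebraMap_eq fun x => rfl

attribute [local instance] isScalarTower_Z₀

theorem injective_lTensor_toLaurent (B : Type u) [CommRing B] [Algebra Z₀.{u} B] :
    Function.Injective ((Algebra.TensorProduct.map (AlgHom.id Z₀.{u} B)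
      (IsScalarTower.toAlgHom Z₀.{u} K₀.{u} (LaurentPolynomial Z₀.{u}))).toRingHom) := by
  let f : K₀.{u} →ₗ[Z₀.{u}] LaurentPolynomial Z₀.{u} :=
    (IsScalarTower.toAlgHom Z₀.{u} K₀.{u} (LaurentPolynomial Z₀.{u})).toLinearMap
  let g : LaurentPolynomial Z₀.{u} →ₗ[Z₀.{u}] K₀.{u} :=
    { LaurentPolynomial.trunc with
      map_smul' := fun n x => by
        obtain ⟨n⟩ := n
        change LaurentPolynomial.trunc (ULift.up n • x) = ULift.up n • LaurentPolynomial.trunc x
        rw [show (ULift.up n : Z₀.{u}) = ((n : ℤ) : Z₀.{u}) from rfl, Int.cast_smul_eq_zsmul,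
          Int.cast_smul_eq_zsmul, map_zsmul] }
  have hgf : g ∘ₗ f = LinearMap.id := LinearMap.ext fun p => LaurentPolynomial.leftInverse_trunc_toLaurent p
  intro a b hab
  have h : (LinearMap.lTensor B f) a = (LinearMap.lTensor B f) b := hab
  have := congrArg (LinearMap.lTensor B g) h
  rwa [← LinearMap.comp_apply, ← LinearMap.comp_apply, ← LinearMap.lTensor_comp, hgf, LinearMap.lTensor_id] at this

theorem isSchemeTheoreticallyDominant_specMap {R R' : CommRingCat.{u}} (f : R ⟶ R')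
    (hf : Function.Injective f) : IsSchemeTheoreticallyDominant (Spec.map f) := by
  rw [isSchemeTheoreticallyDominant_iff]
  refine Scheme.IdealSheafData.ext_of_isAffine ?_
  rw [Scheme.IdealSheafData.ideal_bot, Pi.bot_apply, Scheme.Hom.ker_apply, ← RingHom.injective_iff_ker_eq_bot]
  have key : Function.Injective ((Spec.map f).appTop) := by
    have e := Scheme.ΓSpecIso_naturality f
    intro a b hab
    apply (Scheme.ΓSpecIso R).commRingCatIsoToRingEquiv.injective
    apply hf
    have ha := congr(($e) a)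
    have hb := congr(($e) b)
    simp only [CommRingCat.comp_apply] at ha hb
    exact ha.symm.trans ((congrArg _ hab).trans hb)
  exact key

/-- The punctured line is dense over an affine scheme. -/
theorem dominant_lineOpen_affine (T : Over S) [IsAffine T.left] :
    ∃ (V : Scheme.{u}) (h : V ⟶ (TP T A₀).left), IsSchemeTheoreticallyDominant h ∧
      Set.range h ⊆ Set.range (mp T (lineOpen.{u}).ι).left := by
  let B : Type u := Γ(T.left, ⊤)
  let : Algebra Z₀.{u} B := ((Int.castRingHom B).comp ULift.ringEquiv.toRingHom).toAlgebra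
  let e : T.left ≅ Spec (CommRingCat.of B) := T.left.isoSpec
  let L : Type u := LaurentPolynomial Z₀.{u}
  let φ := (Algebra.TensorProduct.map (AlgHom.id Z₀.{u} B)
      (IsScalarTower.toAlgHom Z₀.{u} K₀.{u} L)).toRingHom
  let c : Spec (CommRingCat.of (B ⊗[Z₀.{u}] K₀.{u})) ⟶ (TP T A₀).left :=
    pullback.lift (Spec.map (CommRingCat.ofHom Algebra.TensorProduct.includeLeftRingHom) ≫ e.inv)
      (Spec.map (CommRingCat.ofHom (R := K₀.{u}) (S := B ⊗[Z₀.{u}] K₀.{u}) Algebra.TensorProduct.includeRight.toRingHom)) (toZ_ext _ _)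
  have hc : IsIso c := by
    have sq : IsPullback (Spec.map (CommRingCat.ofHom
          (Algebra.TensorProduct.includeLeftRingHom : B →+* B ⊗[Z₀.{u}] K₀.{u})) ≫ e.inv)
        (Spec.map (CommRingCat.ofHom (R := K₀.{u}) (S := B ⊗[Z₀.{u}] K₀.{u}) Algebra.TensorProduct.includeRight.toRingHom))
        (toZ T.left) (toZ A₀) := by
      refine IsPullback.of_iso (isPullback_SpecMap_of_isPushout _ _ _ _
          (CommRingCat.isPushout_tensorProduct Z₀.{u} B K₀.{u}))
        (Iso.refl _) e.symm (Iso.refl _) (Iso.refl _) (by simp) ?_ (toZ_ext _ _) (toZ_ext _ _)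
      exact (Category.comp_id _).trans (Category.id_comp _).symm
    exact ⟨sq.lift (pullback.fst _ _) (pullback.snd _ _) pullback.condition,
      sq.hom_ext (by simp [c]) (by simp [c]), pullback.hom_ext (by simp [c]) (by simp [c])⟩
  have := isSchemeTheoreticallyDominant_specMap (CommRingCat.ofHom (R := B ⊗[Z₀.{u}] K₀.{u}) (S := B ⊗[Z₀.{u}] L) φ) (injective_lTensor_toLaurent B)
  refine ⟨Spec (CommRingCat.of (B ⊗[Z₀.{u}] L)), Spec.map (CommRingCat.ofHom (R := B ⊗[Z₀.{u}] K₀.{u}) (S := B ⊗[Z₀.{u}] L) φ) ≫ c, inferInstance, ?_⟩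
  rintro _ ⟨z, rfl⟩
  rw [range_mp, Scheme.Opens.range_ι]
  rw [← Scheme.Hom.comp_apply, Category.assoc, show c ≫ sn T A₀ = _ from pullback.lift_snd _ _ _, ← Spec.map_comp]
  change (Polynomial.X : K₀.{u}) ∉ ((PrimeSpectrum.comap _) z).asIdeal
  rw [PrimeSpectrum.comap_asIdeal, Ideal.mem_comap]
  intro hz
  refine z.isPrime.ne_top (Ideal.eq_top_of_isUnit_mem _ hz ?_)
  simp only [CommRingCat.hom_comp, CommRingCat.hom_ofHom, RingHom.comp_apply]
  change IsUnit ((Algebra.TensorProduct.map (AlgHom.id Z₀.{u} B)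
      (IsScalarTower.toAlgHom Z₀.{u} K₀.{u} L)) ((1 : B) ⊗ₜ[Z₀.{u}] (Polynomial.X : K₀.{u})))
  rw [Algebra.TensorProduct.map_tmul, map_one]
  exact (IsLocalization.map_units (S := L) ⟨(Polynomial.X : K₀.{u}), Submonoid.mem_powers _⟩).map
    (Algebra.TensorProduct.includeRight : L →ₐ[Z₀.{u}] B ⊗[Z₀.{u}] L)

/-- The punctured line is scheme-theoretically dense. -/
theorem dominant_lineOpen (T : Over S) : IsSchemeTheoreticallyDominant (mp T (lineOpen.{u}).ι).left := by
  let f := (mp T (lineOpen.{u}).ι).left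
  have := isOpenImmersion_mp T (lineOpen.{u}).ι
  let 𝒰 := T.left.affineCover
  let V : 𝒰.I₀ → Over S := fun i => Over.mk (𝒰.f i ≫ T.hom)
  let g : ∀ i, V i ⟶ T := fun i => Over.homMk (𝒰.f i)
  have sq : ∀ i, IsPullback (bc (g i) A₀).left (pr (V i) A₀).left (pr T A₀).left (g i).left := fun i => by
    refine IsPullback.of_right (h₁₂ := sn T A₀) (h₂₂ := toZ T.left) (v₁₃ := toZ A₀) ?_
      congr($(bc_pr (g i) A₀).left) (IsPullback.of_hasPullback (toZ T.left) (toZ A₀)).flip
    rw [bc_sn, show (g i).left ≫ toZ T.left = toZ (V i).left from toZ_ext _ _]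
    exact (IsPullback.of_hasPullback (toZ (V i).left) (toZ A₀)).flip
  have hoi : ∀ i, IsOpenImmersion (bc (g i) A₀).left := fun i =>
    MorphismProperty.of_isPullback (P := @IsOpenImmersion) (sq i).flip (inferInstanceAs (IsOpenImmersion (𝒰.f i)))
  have hker : ∀ i, (f.ker).comap (bc (g i) A₀).left = ⊥ := fun i => by
    have : IsAffine (V i).left := (inferInstance : IsAffine (𝒰.X i))
    obtain ⟨W, h, hdom, hr⟩ := dominant_lineOpen_affine (V i)
    have := hoi i
    have hr' : Set.range (h ≫ (bc (g i) A₀).left) ⊆ Set.range f := by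
      rintro _ ⟨w, rfl⟩
      rw [range_mp]
      have hw := hr ⟨w, rfl⟩
      rw [range_mp] at hw
      rw [← Scheme.Hom.comp_apply, Category.assoc, bc_sn, Scheme.Hom.comp_apply]
      exact hw
    have hle : f.ker ≤ (⊥ : Scheme.IdealSheafData (TP (V i) A₀).left).map (bc (g i) A₀).left := by
      rw [← h.ker_eq_bot, ← Scheme.Hom.ker_comp, ← IsOpenImmersion.lift_fac f _ hr']
      exact Scheme.Hom.le_ker_comp _ f
    exact eq_bot_iff.2 ((Scheme.IdealSheafData.comap_mono _ hle).trans (Scheme.IdealSheafData.comap_map_le _ _))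
  have hA : ∀ i, IsAffine (TP (V i) A₀.{u}).left := fun i => by
    have : IsAffine (V i).left := (inferInstance : IsAffine (𝒰.X i))
    have : IsAffine A₀.{u} := inferInstanceAs (IsAffine (Spec _))
    have : IsAffine P₀.{u} := inferInstanceAs (IsAffine (Spec _))
    exact inferInstanceAs (IsAffine (pullback _ _))
  rw [isSchemeTheoreticallyDominant_iff]
  have hop : ∀ i, IsAffineOpen (bc (g i) A₀).left.opensRange := fun i =>
    have := hoi i; have := hA i; isAffineOpen_opensRange _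
  refine Scheme.IdealSheafData.ext_of_iSup_eq_top (fun i => ⟨_, hop i⟩) ?_ fun i => ?_
  · refine top_le_iff.1 fun z _ => TopologicalSpace.Opens.mem_iSup.2 ?_
    obtain ⟨i, p, hp⟩ := 𝒰.exists_eq ((pr T A₀).left z)
    obtain ⟨w, hw, -⟩ := Scheme.exists_preimage_of_isPullback (sq i) z p hp.symm
    exact ⟨i, w, hw⟩
  · have := hoi i
    have := hA i
    have e := congrArg (fun I => I.ideal ⟨⊤, isAffineOpen_top _⟩) (hker i)
    simp only [Scheme.IdealSheafData.ideal_comap_of_isOpenImmersion, Scheme.IdealSheafData.ideal_bot,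
      Pi.bot_apply] at e
    rw [Scheme.IdealSheafData.ideal_bot, Pi.bot_apply]
    have hU : (⟨(bc (g i) A₀).left ''ᵁ ⊤, (isAffineOpen_top _).image_of_isOpenImmersion _⟩ : (TP T A₀.{u}).left.affineOpens) =
        ⟨_, hop i⟩ := Subtype.ext (Scheme.Hom.image_top_eq_opensRange _)
    rw [← hU]
    have hs : Function.Surjective ((bc (g i) A₀).left.appIso ⊤).inv :=
      ((bc (g i) A₀).left.appIso ⊤).commRingCatIsoToRingEquiv.symm.surjective
    refine (Ideal.map_comap_of_surjective _ hs _).symm.trans ?_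
    erw [e]
    exact Ideal.map_bot

end GrothLib.Axes
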