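import Groth.Agent.Lib.AlgSt.Axes.Glue

/-!
# Holonomy of objects on the axes with doubled origin
-/

set_option backward.isDefEq.respectTransparency false
set_option backward.isDefEq.respectTransparency.types false

universe u

open CategoryTheory CategoryTheory.Limits AlgebraicGeometry Opposite

namespace GrothLib.Axes

open _root_.AlgSt GrothLib.FibCat GrothLib.AlgSt

variable {S : Scheme.{u}} {𝒳 : _root_.AlgSt.Cat S} {ι : Type} [DecidableEq ι] [Finite ι] {T : Over S}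

theorem retr₀_ax₀_unit : retr₀.{u} () ≫ ax₀ (ι := Unit) () = 𝟙 _ := by
  simp only [retr₀, ax₀, X₀, A₀, ← Spec.map_comp, ← CommRingCat.ofHom_comp]
  rw [show (retr.{u} ()).comp (toAxis (ι := Unit) ()) = RingHom.id _ from RingHom.ext fun g =>
    Subtype.ext (funext fun j => by
      rw [RingHom.comp_apply, retr_apply, if_pos rfl]
      rfl)]
  exact Spec.map_id _

variable {κ : Type} [DecidableEq κ] [Finite κ]

theorem line_map (f : κ → ι) (hf : Function.Injective f) (k : κ) :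
    line T k ≫ mp T (map₀D f hf) = line T (f k) := by
  rw [mp_comp]
  refine mp_eq_of_eq T ?_
  have hX : map₀X.{u} (fun _ : Unit => k) (inj_unit k) ≫ map₀X f hf = map₀X (fun _ : Unit => f k) (inj_unit (f k)) := by
    rw [← Category.id_comp (map₀X.{u} (fun _ : Unit => k) (inj_unit k) ≫ map₀X f hf),
      ← Category.id_comp (map₀X.{u} (fun _ : Unit => f k) (inj_unit (f k))), ← retr₀_ax₀_unit, Category.assoc,
      Category.assoc, ← Category.assoc (ax₀ ()), ax₀_map₀X, ax₀_map₀X, ax₀_map₀X]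
  apply pushout.hom_ext
  · change chart₀ false ≫ _ ≫ _ = chart₀ false ≫ _
    rw [← Category.assoc, chart₀_map₀D, Category.assoc, chart₀_map₀D, ← Category.assoc, hX, chart₀_map₀D]
  · change chart₀ true ≫ _ ≫ _ = chart₀ true ≫ _
    rw [← Category.assoc, chart₀_map₀D, Category.assoc, chart₀_map₀D, ← Category.assoc, hX, chart₀_map₀D]

theorem chart_map (f : κ → ι) (hf : Function.Injective f) (b : Bool) :
    chart κ T b ≫ mp T (map₀D f hf) = mp T (map₀X f hf) ≫ chart ι T b := by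
  rw [mp_comp, mp_comp, chart₀_map₀D]

theorem lineChart_line (i : ι) (b : Bool) : lineChart T b ≫ line T i = mp T (ax₀ i) ≫ chart ι T b := by
  rw [mp_comp, mp_comp]
  refine mp_eq_of_eq T ?_
  rw [Category.assoc, chart₀_map₀D, ← Category.assoc, ax₀_map₀X]

theorem sec_ax_chart (i : ι) (b : Bool) : sec T (zero₀ ≫ ax₀ i) ≫ chart ι T b = origin ι T i b := by
  rw [sec_mp, Category.assoc]

theorem lineChart_agree_of_range {Z : Over S} (g : Z ⟶ TP T A₀) (hg : ∀ q, sn T A₀ (g.left q) ∈ lineOpen.{u}) :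
    g ≫ lineChart T false = g ≫ lineChart T true := by
  have hr : Set.range g.left ⊆ Set.range (mp T lineOpen.{u}.ι).left := by
    rintro _ ⟨q, rfl⟩
    rw [range_mp, Scheme.Opens.range_ι]
    exact hg q
  have := isOpenImmersion_mp T lineOpen.{u}.ι
  let l : Z.left ⟶ (TP T lineOpen.{u}.toScheme).left := IsOpenImmersion.lift _ g.left hr
  have hl : l ≫ (mp T lineOpen.{u}.ι).left = g.left := IsOpenImmersion.lift_fac _ _ _
  have key := congr($(lineChart_agree T false true).left)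
  refine Over.OverMorphism.ext ?_
  rw [Over.comp_left, Over.comp_left, ← hl]
  simp only [Over.comp_left] at key
  rw [Category.assoc, Category.assoc, key]

variable (ι T) in
/-- Objects on the doubled axes trivial on charts and on lines. -/
structure Adm (x y : 𝒳.obj) : Prop where
  lies : 𝒳.p.obj y = D ι T
  chart : ∀ b, ∃ (z : 𝒳.obj) (u : z ⟶ x) (v : z ⟶ y),
    𝒳.p.IsHomLift (pr T (X₀ ι)) u ∧ 𝒳.p.IsHomLift (chart ι T b) v
  line : ∀ i : ι, ∃ (z : 𝒳.obj) (u : z ⟶ x) (v : z ⟶ y),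
    𝒳.p.IsHomLift (pr T (D₀ Unit)) u ∧ 𝒳.p.IsHomLift (line T i) v

variable (T) in
/-- The holonomy of an object on the doubled axes. -/
def HasHol (x y : 𝒳.obj) (h : ι → (x ⟶ x)) : Prop :=
  (∀ i, 𝒳.p.map (h i) = 𝟙 _) ∧ ∃ w₀ w₁ : x ⟶ y, ∀ i, Trans T x i w₀ (h i ≫ w₁)

variable {x y y' : 𝒳.obj} (hG : _root_.FibCat.IsFibGrpd 𝒳.p)
include hG

theorem exists_isHomLift_comp_vert {Z : Over S} {g : T ⟶ Z} (a : x ⟶ x) (ha : 𝒳.p.map a = 𝟙 _) (w : x ⟶ y)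
    (hw : 𝒳.p.IsHomLift g (a ≫ w)) : 𝒳.p.IsHomLift g w := by
  have hxT := IsHomLift.domain_eq 𝒳.p g (a ≫ w)
  have hyZ := IsHomLift.codomain_eq 𝒳.p g (a ≫ w)
  refine IsHomLift.of_fac' 𝒳.p _ _ hxT hyZ ?_
  rw [← IsHomLift.fac' 𝒳.p g (a ≫ w), 𝒳.p.map_comp, ha, Category.id_comp]

theorem vert_lift (hxT : 𝒳.p.obj x = T) {a : x ⟶ x} (ha : 𝒳.p.map a = 𝟙 _) : 𝒳.p.IsHomLift (𝟙 T) a :=
  IsHomLift.of_fac' 𝒳.p _ _ hxT hxT (by simp [ha])

theorem map_vert {a : x ⟶ x} (ha : 𝒳.p.IsHomLift (𝟙 T) a) : 𝒳.p.map a = 𝟙 _ := by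
  rw [IsHomLift.fac' 𝒳.p (𝟙 T) a]; simp

theorem exists_hol [Nonempty ι] (hA : Adm ι T x y) : ∃ h, HasHol (ι := ι) T x y h := by
  obtain ⟨i₀⟩ := (inferInstance : Nonempty ι)
  obtain ⟨z, u, v, hu, hv⟩ := hA.chart false
  have hxT : 𝒳.p.obj x = T := IsHomLift.codomain_eq 𝒳.p (pr T (X₀ ι)) u
  obtain ⟨e, he, -⟩ := exists_over hG (sec T (zero₀ ≫ ax₀ i₀)) (pr T (X₀ ι)) u hu (𝟙 x)
    (by rw [sec_pr]; exact IsHomLift.id hxT)
  have hw : 𝒳.p.IsHomLift (origin ι T i₀ false) (e ≫ v) := by rw [← sec_ax_chart]; infer_instance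
  have hT : ∀ i, ∃ w, Trans T x i (e ≫ v) w := fun i => by
    obtain ⟨zL, uL, vL, huL, hvL⟩ := hA.line i
    exact exists_trans hG uL huL vL hvL _ (origin_eq T i i₀ false ▸ hw)
  choose w hw₁ using hT
  have hh : ∀ i, ∃ h : x ⟶ x, 𝒳.p.IsHomLift (𝟙 T) h ∧ h ≫ w i₀ = w i := fun i =>
    exists_over hG (𝟙 T) _ (w i₀) (hw₁ i₀).lift₁ (w i) (by
      rw [Category.id_comp, origin_eq T i₀ i]; exact (hw₁ i).lift₁)
  choose h hh₁ hh₂ using hh
  exact ⟨h, fun i => map_vert hG (hh₁ i), e ≫ v, w i₀, fun i => (hh₂ i).symm ▸ hw₁ i⟩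

theorem hol_unique [Nonempty ι]
    (hd : RepByAlgSpWith AlgSp.IsSeparatedMor (_root_.FibCat.diag (_root_.FibCat.toSelf 𝒳)))
    (hxT : 𝒳.p.obj x = T) {h h' : ι → (x ⟶ x)} (H : HasHol T x y h) (H' : HasHol T x y h') :
    ∃ a b : x ⟶ x, 𝒳.p.map a = 𝟙 _ ∧ 𝒳.p.map b = 𝟙 _ ∧ ∀ i, h' i = a ≫ h i ≫ b := by
  obtain ⟨i₀⟩ := (inferInstance : Nonempty ι)
  obtain ⟨hh, w₀, w₁, hw⟩ := H
  obtain ⟨hh', w₀', w₁', hw'⟩ := H'
  have hw₁ := exists_isHomLift_comp_vert hG _ (hh i₀) _ (hw i₀).lift₁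
  have hw₁' := exists_isHomLift_comp_vert hG _ (hh' i₀) _ (hw' i₀).lift₁
  obtain ⟨a, ha, haw⟩ := exists_over hG (𝟙 T) _ w₀ (hw i₀).lift₀ w₀' (by rw [Category.id_comp]; exact (hw' i₀).lift₀)
  obtain ⟨b, hb, hbw⟩ := exists_over hG (𝟙 T) _ w₁' hw₁' w₁ (by rw [Category.id_comp]; exact hw₁)
  refine ⟨a, b, map_vert hG ha, map_vert hG hb, fun i => ?_⟩
  have h1 := (hw i).smul hG a (map_vert hG ha)
  rw [haw, ← hbw] at h1
  have e := Trans.unique hG hd (hw' i) h1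
  have hl : 𝒳.p.IsHomLift (𝟙 T) (h' i) := vert_lift hG hxT (hh' i)
  have hr : 𝒳.p.IsHomLift (𝟙 T) (a ≫ h i ≫ b) :=
    vert_lift hG hxT (by rw [𝒳.p.map_comp, 𝒳.p.map_comp, map_vert hG ha, hh, map_vert hG hb]; simp)
  exact over_unique hG _ w₁' hw₁' hl hr (by simpa only [Category.assoc] using e)

omit hG in
theorem HasHol.comp {h : ι → (x ⟶ x)} (H : HasHol T x y h) (φ : y ⟶ y') (hφ : 𝒳.p.IsHomLift (𝟙 (D ι T)) φ) :
    HasHol T x y' h := by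
  obtain ⟨hh, w₀, w₁, hw⟩ := H
  exact ⟨hh, w₀ ≫ φ, w₁ ≫ φ, fun i => by rw [← Category.assoc]; exact (hw i).comp φ hφ⟩

omit hG in
theorem Adm.comp (hA : Adm ι T x y) (φ : y ⟶ y') (hφ : 𝒳.p.IsHomLift (𝟙 (D ι T)) φ) : Adm ι T x y' := by
  refine ⟨IsHomLift.codomain_eq 𝒳.p (𝟙 (D ι T)) φ, fun b => ?_, fun i => ?_⟩
  · obtain ⟨z, u, v, hu, hv⟩ := hA.chart b
    exact ⟨z, u, v ≫ φ, hu, IsHomLift.comp_lift_id_right' 𝒳.p _ v (D ι T) φ⟩
  · obtain ⟨z, u, v, hu, hv⟩ := hA.line i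
    exact ⟨z, u, v ≫ φ, hu, IsHomLift.comp_lift_id_right' 𝒳.p _ v (D ι T) φ⟩

theorem Adm.pull (hA : Adm ι T x y) (f : κ → ι) (hf : Function.Injective f) (μ : y' ⟶ y)
    (hμ : 𝒳.p.IsHomLift (mp T (map₀D f hf)) μ) : Adm κ T x y' := by
  refine ⟨IsHomLift.domain_eq 𝒳.p (mp T (map₀D f hf)) μ, fun b => ?_, fun k => ?_⟩
  · obtain ⟨z, u, v, hu, hv⟩ := hA.chart b
    have hxT : 𝒳.p.obj x = T := IsHomLift.codomain_eq 𝒳.p (pr T (X₀ ι)) u
    obtain ⟨z', u', hu'⟩ := IsFibGrpd.exists_lift_of_eq hG hxT (pr T (X₀.{u} κ))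
    obtain ⟨θ, hθ, -⟩ := exists_over hG (mp T (map₀X f hf)) _ u hu u' (by rw [mp_pr]; exact hu')
    obtain ⟨v', hv', -⟩ := exists_over hG (Axes.chart κ T b) _ μ hμ (θ ≫ v)
      (by rw [chart_map]; infer_instance)
    exact ⟨z', u', v', hu', hv'⟩
  · obtain ⟨z, u, v, hu, hv⟩ := hA.line (f k)
    obtain ⟨v', hv', -⟩ := exists_over hG (Axes.line T k) _ μ hμ v (by rw [line_map]; exact hv)
    exact ⟨z, u, v', hu, hv'⟩

theorem Trans.pull (f : κ → ι) (hf : Function.Injective f) (μ : y' ⟶ y)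
    (hμ : 𝒳.p.IsHomLift (mp T (map₀D f hf)) μ) {k : κ} {w₀ w₁ : x ⟶ y} {w₀' w₁' : x ⟶ y'}
    (h₀ : 𝒳.p.IsHomLift (origin κ T k false) w₀') (h₁ : 𝒳.p.IsHomLift (origin κ T k true) w₁')
    (e₀ : w₀' ≫ μ = w₀) (e₁ : w₁' ≫ μ = w₁) (h : Trans T x (f k) w₀ w₁) : Trans T x k w₀' w₁' := by
  obtain ⟨z, u, v, a₀, a₁, hu, hv, ha₀, ha₁, he₀, he₁, rfl, rfl⟩ := h
  obtain ⟨v', hv', hvv⟩ := exists_over hG (Axes.line T k) _ μ hμ v (by rw [line_map]; exact hv)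
  refine ⟨z, u, v', a₀, a₁, hu, hv', ha₀, ha₁, he₀, he₁,
    over_unique hG _ μ hμ ?_ h₀ (by rw [Category.assoc, hvv, e₀]),
    over_unique hG _ μ hμ ?_ h₁ (by rw [Category.assoc, hvv, e₁])⟩
  · rw [← lineOrigin_line]; infer_instance
  · rw [← lineOrigin_line]; infer_instance

theorem HasHol.pull [Nonempty κ] {h : ι → (x ⟶ x)} (H : HasHol T x y h) (f : κ → ι) (hf : Function.Injective f)
    (μ : y' ⟶ y) (hμ : 𝒳.p.IsHomLift (mp T (map₀D f hf)) μ) : HasHol T x y' (fun k => h (f k)) := by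
  obtain ⟨k₀⟩ := (inferInstance : Nonempty κ)
  obtain ⟨hh, w₀, w₁, hw⟩ := H
  have hw₁ := exists_isHomLift_comp_vert hG _ (hh (f k₀)) _ (hw (f k₀)).lift₁
  have horig : ∀ k b, origin κ T k b ≫ mp T (map₀D f hf) = origin ι T (f k) b := fun k b => by
    rw [← lineOrigin_line, Category.assoc, line_map, lineOrigin_line]
  obtain ⟨w₀', h₀', e₀⟩ := exists_over hG (origin κ T k₀ false) _ μ hμ w₀
    (by rw [horig]; exact (hw (f k₀)).lift₀)
  obtain ⟨w₁', h₁', e₁⟩ := exists_over hG (origin κ T k₀ true) _ μ hμ w₁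
    (by rw [horig]; exact hw₁)
  refine ⟨fun k => hh (f k), w₀', w₁', fun k => ?_⟩
  have hxT : 𝒳.p.obj x = T := IsHomLift.domain_eq 𝒳.p (origin κ T k₀ false) w₀'
  have := vert_lift hG hxT (hh (f k))
  refine (hw (f k)).pull hG f hf μ hμ (by rw [origin_eq T k k₀]; exact h₀') ?_ e₀ (by rw [Category.assoc, e₁])
  rw [origin_eq T k k₀]
  exact IsHomLift.comp_lift_id_left' 𝒳.p T (h (f k)) _ w₁'

theorem exists_endo' {z w : 𝒳.obj} (p : z ⟶ w) (s : w ⟶ w) (hs : 𝒳.p.map s = 𝟙 _) :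
    ∃ θ : z ⟶ z, 𝒳.p.map θ = 𝟙 _ ∧ θ ≫ p = p ≫ s :=
  exists_vert hG p (p ≫ s) (𝟙 _) (by rw [𝒳.p.map_comp, hs]; simp)

omit hG in
/-- Families of endomorphisms of the line with one origin value extend over the axes. -/
theorem exists_extension (hG : _root_.FibCat.IsFibGrpd 𝒳.p) {zX zA : 𝒳.obj} (uX : zX ⟶ x) (uA : zA ⟶ x)
    (huX : 𝒳.p.IsHomLift (pr T (X₀ ι)) uX) (huA : 𝒳.p.IsHomLift (pr T A₀) uA)
    (r : ι → (zA ⟶ zX)) (hr : ∀ i, 𝒳.p.IsHomLift (mp T (ax₀ i)) (r i)) (hru : ∀ i, r i ≫ uX = uA)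
    (ζ : x ⟶ zA) (hζ : 𝒳.p.IsHomLift (sec T zero₀) ζ) (hζu : ζ ≫ uA = 𝟙 x)
    (a : x ⟶ x) (ha : 𝒳.p.map a = 𝟙 _) (c : ι → (zA ⟶ zA)) (hc : ∀ i, 𝒳.p.map (c i) = 𝟙 _)
    (hv : ∀ i, ζ ≫ c i ≫ uA = a) :
    ∃ C : zX ⟶ zX, 𝒳.p.map C = 𝟙 _ ∧ ∀ i, r i ≫ C = c i ≫ r i := by
  classical
  have := Fintype.ofFinite ι
  have hxT : 𝒳.p.obj x = T := IsHomLift.codomain_eq 𝒳.p (pr T A₀) uA
  obtain ⟨Ā, hĀ, hĀu⟩ := exists_endo' hG uX a ha
  obtain ⟨aA, haA, haAu⟩ := exists_endo' hG uA a ha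
  have hĀr : ∀ i, r i ≫ Ā = aA ≫ r i := fun i => vert_ext hG uX
    (by rw [𝒳.p.map_comp, 𝒳.p.map_comp, hĀ, haA, Category.comp_id, Category.id_comp])
    (by rw [Category.assoc, Category.assoc, hĀu, hru, haAu, ← Category.assoc, hru])
  have : IsIso Ā := (IsFibGrpd.isIso_iff hG Ā).2 (by rw [hĀ]; infer_instance)
  have : IsIso aA := (IsFibGrpd.isIso_iff hG aA).2 (by rw [haA]; infer_instance)
  have hq : ∀ i, ∃ q : zX ⟶ zA, 𝒳.p.IsHomLift (mp T (retr₀ i)) q ∧ q ≫ uA = uX := fun i =>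
    exists_over hG _ _ uA huA uX (by rw [mp_pr]; exact huX)
  choose q hq hqu using hq
  have hC : ∀ i, ∃ Ci : zX ⟶ zX, 𝒳.p.map Ci = 𝟙 _ ∧ Ci ≫ q i = q i ≫ c i := fun i => exists_endo' hG (q i) (c i) (hc i)
  choose Ci hCi hCiq using hC
  have hCu : ∀ i, Ci i ≫ uX = q i ≫ c i ≫ uA := fun i => by
    rw [← hqu i, ← Category.assoc, hCiq, Category.assoc]
  have hrq : ∀ i j, r j ≫ Ci i = (if j = i then c i else aA) ≫ r j := by
    intro i j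
    refine vert_ext hG uX ?_ ?_
    · rw [𝒳.p.map_comp, 𝒳.p.map_comp, hCi]
      split_ifs <;> simp [hc, haA]
    · rw [Category.assoc, Category.assoc, hCu, hru]
      have := hr j
      have := hq i
      split_ifs with hji
      · subst hji
        have h1 : 𝒳.p.IsHomLift (mp T (ax₀ j) ≫ mp T (retr₀ j)) (r j ≫ q j) := inferInstance
        rw [mp_comp, ax₀_retr₀_self, mp_id] at h1
        have h2 : r j ≫ q j = 𝟙 zA := over_unique hG _ uA huA h1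
          (IsHomLift.id (IsHomLift.domain_eq 𝒳.p (pr T A₀) uA)) (by rw [Category.assoc, hqu, hru, Category.id_comp])
        rw [reassoc_of% h2]
      · have h1 : 𝒳.p.IsHomLift (mp T (ax₀ j) ≫ mp T (retr₀ i)) (r j ≫ q i) := inferInstance
        rw [mp_comp, ax₀_retr₀_ne hji] at h1
        have := hζ
        have h3 : 𝒳.p.IsHomLift (pr T A₀ ≫ sec T zero₀) (uA ≫ ζ) := inferInstance
        have e : pr T A₀ ≫ sec T zero₀.{u} = mp T (lineStr ≫ zero₀) :=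
          tp_ext (by simp [mp_pr, sec_pr]) (by
            simp only [Over.comp_left, Category.assoc, mp_sn, sec, lift_sn]
            exact ((Category.assoc _ _ _).symm.trans (congrArg (· ≫ zero₀) (toZ_ext _ _))).trans (Category.assoc _ _ _))
        rw [e] at h3
        have h2 : r j ≫ q i = uA ≫ ζ := over_unique hG _ uA huA h1 h3
          (by rw [Category.assoc, hqu, hru, Category.assoc, hζu, Category.comp_id])
        rw [reassoc_of% h2, hv, haAu]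
  suffices H : ∀ l : List ι, l.Nodup → ∃ C : zX ⟶ zX, 𝒳.p.map C = 𝟙 _ ∧
      ∀ j, r j ≫ C = (if j ∈ l then c j else aA) ≫ r j by
    obtain ⟨C, hC, hC'⟩ := H Finset.univ.toList (Finset.nodup_toList _)
    exact ⟨C, hC, fun i => by rw [hC' i, if_pos (by simp)]⟩
  intro l hl
  induction l with
  | nil => exact ⟨Ā, hĀ, fun j => by rw [if_neg (by simp), hĀr]⟩
  | cons i l ih =>
    rw [List.nodup_cons] at hl
    obtain ⟨C, hC, hC'⟩ := ih hl.2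
    refine ⟨Ci i ≫ inv Ā ≫ C, by rw [𝒳.p.map_comp, 𝒳.p.map_comp, hCi, Functor.map_inv, IsIso.inv_eq_of_hom_inv_id
      (show 𝒳.p.map Ā ≫ 𝟙 _ = 𝟙 _ by rw [hĀ]; simp), hC]; simp, fun j => ?_⟩
    have hinv : r j ≫ inv Ā = inv aA ≫ r j := by
      rw [IsIso.comp_inv_eq, Category.assoc, hĀr, IsIso.inv_hom_id_assoc]
    rw [reassoc_of% (hrq i j), reassoc_of% hinv, hC']
    by_cases hji : j = i
    · subst hji
      simp [hl.1]
    · simp [hji]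

/-- Objects with the same holonomy are isomorphic. -/
theorem iso_of_hol_eq (hst : _root_.Stk.IsStack (AlgSp.J S) 𝒳) [Nonempty ι] (hA : Adm ι T x y) (hA' : Adm ι T x y')
    {h : ι → (x ⟶ x)} (H : HasHol T x y h) (H' : HasHol T x y' h) :
    ∃ φ : y ⟶ y', 𝒳.p.IsHomLift (𝟙 (D ι T)) φ := by
  obtain ⟨i₀⟩ := (inferInstance : Nonempty ι)
  obtain ⟨hh, w₀, w₁, hw⟩ := H
  obtain ⟨-, w₀', w₁', hw'⟩ := H'
  obtain ⟨z₀, u₀, -, hu₀, -⟩ := hA.chart false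
  have hxT : 𝒳.p.obj x = T := IsHomLift.codomain_eq 𝒳.p (pr T (X₀ ι)) u₀
  obtain ⟨zX, uX, huX⟩ := IsFibGrpd.exists_lift_of_eq hG hxT (pr T (X₀.{u} ι))
  obtain ⟨zA, uA, huA⟩ := IsFibGrpd.exists_lift_of_eq hG hxT (pr T A₀.{u})
  obtain ⟨zL, uL, huL⟩ := IsFibGrpd.exists_lift_of_eq hG hxT (pr T (D₀.{u} Unit))
  obtain ⟨ζ, hζ, hζu⟩ := exists_over hG (sec T (zero₀.{u})) (pr T A₀) uA huA (𝟙 x)
    (by rw [sec_pr]; exact IsHomLift.id hxT)
  have hr : ∀ i, ∃ r : zA ⟶ zX, 𝒳.p.IsHomLift (mp T (ax₀ i)) r ∧ r ≫ uX = uA := fun i =>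
    exists_over hG _ _ uX huX uA (by rw [mp_pr]; exact huA)
  choose r hr hru using hr
  have hj : ∀ b, ∃ j : zA ⟶ zL, 𝒳.p.IsHomLift (lineChart T b) j ∧ j ≫ uL = uA := fun b =>
    exists_over hG _ _ uL huL uA (by rw [mp_pr]; exact huA)
  choose j hj hju using hj
  have hv : ∀ (y : 𝒳.obj), Adm ι T x y → ∀ b, ∃ v : zX ⟶ y, 𝒳.p.IsHomLift (chart ι T b) v := fun y hA b => by
    obtain ⟨z, u, v, hu, hv⟩ := hA.chart b
    obtain ⟨θ, hθ, -⟩ := exists_over hG (𝟙 (X ι T)) _ u hu uX (by rw [Category.id_comp]; exact huX)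
    exact ⟨θ ≫ v, IsHomLift.comp_lift_id_left' 𝒳.p (X ι T) θ _ v⟩
  choose v hvl using hv y hA
  choose v' hvl' using hv y' hA'
  have hvL : ∀ (y : 𝒳.obj) (w₀ w₁ : x ⟶ y) (i : ι), Trans T x i w₀ w₁ → ∃ v : zL ⟶ y,
      𝒳.p.IsHomLift (Axes.line T i) v ∧ ζ ≫ j false ≫ v = w₀ ∧ ζ ≫ j true ≫ v = w₁ := by
    intro y w₀ w₁ i hT
    obtain ⟨z, u, v, e₀, e₁, hu, hv, h₀, h₁, he₀, he₁, rfl, rfl⟩ := hT
    obtain ⟨θ, hθ, hθu⟩ := exists_over hG (𝟙 (L T)) _ u hu uL (by rw [Category.id_comp]; exact huL)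
    have := IsHomLift.comp_lift_id_left' 𝒳.p (L T) θ (Axes.line T i) v
    have he : ∀ b (e : x ⟶ z), 𝒳.p.IsHomLift (lineOrigin T b) e → e ≫ u = 𝟙 x → ζ ≫ j b ≫ θ = e := fun b e hel heu => by
      have := hj b
      have h2 : 𝒳.p.IsHomLift (sec T zero₀ ≫ lineChart T b) (ζ ≫ j b ≫ θ) := by
        have : 𝒳.p.IsHomLift (lineChart T b) (j b ≫ θ) := IsHomLift.comp_lift_id_right' 𝒳.p _ _ (L T) θ
        infer_instance
      rw [sec_mp] at h2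
      exact over_unique hG _ u hu h2 hel (by simp only [Category.assoc, hθu, hju, hζu, heu])
    exact ⟨θ ≫ v, this, by rw [← he false e₀ h₀ he₀]; simp, by rw [← he true e₁ h₁ he₁]; simp⟩
  choose vL hvLl hvL₀ hvL₁ using fun i => hvL y _ _ i (hw i)
  choose vL' hvLl' hvL₀' hvL₁' using fun i => hvL y' _ _ i (hw' i)
  have hε : ∀ (y : 𝒳.obj) (v : Bool → (zX ⟶ y)) (vL : ι → (zL ⟶ y)), (∀ b, 𝒳.p.IsHomLift (chart ι T b) (v b)) →
      (∀ i, 𝒳.p.IsHomLift (Axes.line T i) (vL i)) → ∀ b i,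
      ∃ ε : zA ⟶ zA, 𝒳.p.map ε = 𝟙 _ ∧ ε ≫ j b ≫ vL i = r i ≫ v b := by
    intro y v vL hv hvL b i
    have := hj b
    have := hvL i
    have h1 : 𝒳.p.IsHomLift (lineChart T b ≫ Axes.line T i) (j b ≫ vL i) := inferInstance
    rw [lineChart_line] at h1
    have := hr i
    have := hv b
    obtain ⟨ε, hε, hεe⟩ := exists_over hG (𝟙 (TP T A₀.{u})) _ (j b ≫ vL i) h1 (r i ≫ v b)
      (by rw [Category.id_comp]; infer_instance)
    exact ⟨ε, by rw [IsHomLift.fac' 𝒳.p (𝟙 (TP T A₀.{u})) ε]; simp, hεe⟩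
  choose ε hε₁ hε₂ using hε y v vL hvl hvLl
  choose ε' hε₁' hε₂' using hε y' v' vL' hvl' hvLl'
  have hval : ∀ (β : zA ⟶ zA), 𝒳.p.map β = 𝟙 _ → ∃ a : x ⟶ x, 𝒳.p.map a = 𝟙 _ ∧ ζ ≫ β = a ≫ ζ ∧ ζ ≫ β ≫ uA = a := by
    intro β hβ
    have hβl : 𝒳.p.IsHomLift (𝟙 (TP T A₀.{u})) β :=
      IsHomLift.of_fac' 𝒳.p _ _ (IsHomLift.domain_eq 𝒳.p (pr T A₀) uA) (IsHomLift.domain_eq 𝒳.p (pr T A₀) uA)
        (by simp [hβ])
    obtain ⟨a, ha, hae⟩ := exists_over hG (𝟙 T) _ ζ hζ (ζ ≫ β)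
      (by rw [Category.id_comp]; exact IsHomLift.comp_lift_id_right' 𝒳.p _ ζ (TP T A₀.{u}) β)
    exact ⟨a, map_vert hG ha, hae.symm, by rw [← reassoc_of% hae, hζu, Category.comp_id]⟩
  have hc : ∀ b i, ∃ c : zA ⟶ zA, 𝒳.p.map c = 𝟙 _ ∧ c ≫ ε' b i = ε b i := fun b i => by
    obtain ⟨c, hc, hce⟩ := exists_vert hG (ε' b i) (ε b i) (𝟙 _) (by rw [hε₁', hε₁]; simp)
    exact ⟨c, hc, hce⟩
  choose c hc₁ hc₂ using hc
  choose a ha₁ ha₂ ha₃ using fun b i => hval (c b i) (hc₁ b i)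
  have hζr : ∀ i, ζ ≫ r i = ζ ≫ r i₀ := fun i => by
    have := hr i
    have := hr i₀
    have h1 : 𝒳.p.IsHomLift (sec T zero₀ ≫ mp T (ax₀ i)) (ζ ≫ r i) := inferInstance
    have h2 : 𝒳.p.IsHomLift (sec T zero₀ ≫ mp T (ax₀ i₀)) (ζ ≫ r i₀) := inferInstance
    rw [sec_mp] at h1 h2
    rw [zero₀_ax₀ i i₀] at h1
    exact over_unique hG _ uX huX h1 h2 (by simp [hru])
  have ha : ∀ b i, a b i = a b i₀ := by
    intro b
    have hP : ∀ (y : 𝒳.obj) (v : zX ⟶ y) (vL : ι → (zL ⟶ y)) (w : x ⟶ y) (ε : ι → (zA ⟶ zA)) (hh : ι → (x ⟶ x))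
        (_ : ∀ i, 𝒳.p.map (ε i) = 𝟙 _) (_ : ∀ i, ε i ≫ j b ≫ vL i = r i ≫ v) (_ : ∀ i, ζ ≫ j b ≫ vL i = hh i ≫ w),
        ∀ i (e : x ⟶ x), ζ ≫ ε i = e ≫ ζ → e ≫ hh i ≫ w = ζ ≫ r i₀ ≫ v := by
      intro y v vL w ε hh _ h2 h3 i e he
      rw [← h3, ← reassoc_of% he, h2, reassoc_of% (hζr i)]
    let w := bif b then w₁ else w₀
    let w' := bif b then w₁' else w₀'
    let hb : ι → (x ⟶ x) := fun i => bif b then h i else 𝟙 x
    have hwb : ∀ i, ζ ≫ j b ≫ vL i = hb i ≫ w := fun i => by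
      cases b
      · simp [hb, w, hvL₀]
      · simp [hb, w, hvL₁]
    have hwb' : ∀ i, ζ ≫ j b ≫ vL' i = hb i ≫ w' := fun i => by
      cases b
      · simp [hb, w', hvL₀']
      · simp [hb, w', hvL₁']
    choose e he₁ he₂ _ using fun i => hval (ε b i) (hε₁ b i)
    choose e' he₁' he₂' _ using fun i => hval (ε' b i) (hε₁' b i)
    have k := hP y (v b) vL w (ε b) hb (hε₁ b) (hε₂ b) hwb
    have k' := hP y' (v' b) vL' w' (ε' b) hb (hε₁' b) (hε₂' b) hwb'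
    have hbm : ∀ i, 𝒳.p.map (hb i) = 𝟙 _ := fun i => by cases b <;> simp [hb, hh]
    have hw'l : 𝒳.p.IsHomLift (origin ι T i₀ b) w' := by
      cases b
      · exact (hw' i₀).lift₀
      · exact exists_isHomLift_comp_vert hG _ (hh i₀) _ (hw' i₀).lift₁
    have hvl2 : ∀ {s : x ⟶ x}, 𝒳.p.map s = 𝟙 _ → 𝒳.p.IsHomLift (𝟙 T) s := fun {s} hs => vert_lift hG hxT hs
    have hae : ∀ i, a b i ≫ e' i = e i := fun i => by
      have := (reassoc_of% (ha₂ b i)) (ε' b i)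
      rw [hc₂, he₂, he₂', ← Category.assoc] at this
      have h' := congrArg (· ≫ uA) this
      simp only [Category.assoc, hζu, Category.comp_id] at h'
      exact h'.symm
    have hEq : ∀ i, e i ≫ hb i = e i₀ ≫ hb i₀ ∧ e' i ≫ hb i = e' i₀ ≫ hb i₀ := by
      have hwl : 𝒳.p.IsHomLift (origin ι T i₀ b) w := by
        cases b
        · exact (hw i₀).lift₀
        · exact exists_isHomLift_comp_vert hG _ (hh i₀) _ (hw i₀).lift₁
      intro i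
      constructor
      · exact over_unique hG _ w hwl (hvl2 (by simp [he₁, hbm])) (hvl2 (by simp [he₁, hbm]))
          (by rw [Category.assoc, k i (e i) (he₂ i), Category.assoc, k i₀ (e i₀) (he₂ i₀)])
      · exact over_unique hG _ w' hw'l (hvl2 (by simp [he₁', hbm])) (hvl2 (by simp [he₁', hbm]))
          (by rw [Category.assoc, k' i (e' i) (he₂' i), Category.assoc, k' i₀ (e' i₀) (he₂' i₀)])
    intro i
    have : IsIso (e' i₀ ≫ hb i₀) := (IsFibGrpd.isIso_iff hG _).2 (by simp [he₁', hbm]; infer_instance)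
    rw [← cancel_mono (e' i₀ ≫ hb i₀)]
    calc a b i ≫ e' i₀ ≫ hb i₀ = e i ≫ hb i := by rw [← (hEq i).2, ← Category.assoc, hae]
      _ = e i₀ ≫ hb i₀ := (hEq i).1
      _ = a b i₀ ≫ e' i₀ ≫ hb i₀ := by rw [← Category.assoc, hae]
  choose C hC hCr using fun b => exists_extension hG uX uA huX huA r hr hru ζ hζ hζu (a b i₀) (ha₁ b i₀) (c b) (hc₁ b)
    (fun i => (ha₃ b i).trans (ha b i))
  have hzX : ∀ b, 𝒳.p.IsHomLift (𝟙 (X ι T)) (C b) := fun b =>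
    IsHomLift.of_fac' 𝒳.p _ _ (IsHomLift.domain_eq 𝒳.p (pr T (X₀ ι)) uX) (IsHomLift.domain_eq 𝒳.p (pr T (X₀ ι)) uX)
      (by simp [hC])
  obtain ⟨φ, hφ, -⟩ := exists_hom_charts hst (a := y) hA.lies
    (eqToHom (hA.lies.trans hA'.lies.symm)) (fun _ => zX) v hvl (fun b => C b ≫ v' b) (fun b => by
      rw [𝒳.p.map_comp, hC, Category.id_comp, IsHomLift.fac' 𝒳.p (chart ι T b) (v b),
        IsHomLift.fac' 𝒳.p (chart ι T b) (v' b)]
      simp) (by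
    intro i a' Z k k' g hg hk hk' e
    have hν : ∀ (k : a' ⟶ zX), 𝒳.p.IsHomLift (g ≫ mp T (ax₀ i)) k →
        ∃ ν : a' ⟶ zA, 𝒳.p.IsHomLift g ν ∧ ν ≫ r i = k := fun k hk => exists_over hG g _ (r i) (hr i) k hk
    obtain ⟨ν, hνl, rfl⟩ := hν k hk
    obtain ⟨ν', hνl', rfl⟩ := hν k' hk'
    have hεl : ∀ b, 𝒳.p.IsHomLift (𝟙 (TP T A₀.{u})) (ε b i) := fun b =>
      IsHomLift.of_fac' 𝒳.p _ _ (IsHomLift.domain_eq 𝒳.p (pr T A₀) uA) (IsHomLift.domain_eq 𝒳.p (pr T A₀) uA)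
        (by simp [hε₁])
    have hjl : ∀ b (ν : a' ⟶ zA), 𝒳.p.IsHomLift g ν → 𝒳.p.IsHomLift (g ≫ lineChart T b) (ν ≫ ε b i ≫ j b) :=
      fun b ν hν => by
        have := hεl b
        have := hj b
        have : 𝒳.p.IsHomLift (lineChart T b) (ε b i ≫ j b) :=
          IsHomLift.comp_lift_id_left' 𝒳.p (TP T A₀.{u}) (ε b i) _ (j b)
        infer_instance
    have e2 : ν ≫ ε false i ≫ j false = ν' ≫ ε true i ≫ j true := by
      refine over_unique hG _ (vL i) (hvLl i) (hjl false ν hνl) ?_ ?_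
      · rw [lineChart_agree_of_range g hg]; exact hjl true ν' hνl'
      · simp only [Category.assoc, hε₂]
        simpa only [Category.assoc] using e
    simp only [Category.assoc]
    rw [reassoc_of% (hCr false i), reassoc_of% (hCr true i), ← hε₂' false i, ← hε₂' true i,
      reassoc_of% (hc₂ false i), reassoc_of% (hc₂ true i), reassoc_of% e2])
  exact ⟨φ, IsHomLift.of_fac' 𝒳.p _ _ hA.lies hA'.lies (by simp [hφ])⟩

end GrothLib.Axes
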