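import Groth.Agent.Lib.AlgSt.Axes.Line

/-!
# Gluing morphisms on the axes with doubled origin
-/

set_option backward.isDefEq.respectTransparency false
set_option backward.isDefEq.respectTransparency.types false

universe u

open CategoryTheory CategoryTheory.Limits AlgebraicGeometry Opposite

namespace GrothLib.Axes

open _root_.AlgSt GrothLib.FibCat GrothLib.AlgSt

variable {S : Scheme.{u}} {𝒳 : _root_.AlgSt.Cat S} {ι : Type} [DecidableEq ι] [Finite ι] {T : Over S}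

/-- A morphism into the axes landing in a punctured axis lies on the axis. -/
theorem eq_ax_of_range {Z : Over S} (g : Z ⟶ X ι T) (i : ι) (hr : ∀ q, sn T (X₀ ι) (g.left q) ∈ axOpen i) :
    (g ≫ mp T (retr₀ i)) ≫ mp T (ax₀ i) = g := by
  refine tp_ext (by simp [mp_pr, mp_pr_assoc]) ?_
  have hr' : Set.range (g.left ≫ sn T (X₀ ι)) ⊆ Set.range (axOpen.{u} i).ι := by
    rintro _ ⟨q, rfl⟩
    rw [Scheme.Opens.range_ι]
    exact hr q
  simp only [Over.comp_left, Category.assoc, mp_sn, mp_sn_assoc]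
  rw [← Category.assoc g.left, ← IsOpenImmersion.lift_fac (axOpen.{u} i).ι _ hr', Category.assoc, axOpen_ι_retr₀_ax₀,
    IsOpenImmersion.lift_fac]

theorem mem_lineOpen_of_range {Z : Over S} (g : Z ⟶ X ι T) (i : ι) (hr : ∀ q, sn T (X₀ ι) (g.left q) ∈ axOpen i)
    (q : ↥Z.left) : sn T A₀ ((g ≫ mp T (retr₀ i)).left q) ∈ lineOpen.{u} := by
  have h1 : sn T A₀ ((g ≫ mp T (retr₀ i)).left q) = retr₀ i (sn T (X₀ ι) (g.left q)) := by
    have := congr($(mp_sn T (retr₀ (ι := ι) i)) (g.left q))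
    exact this
  rw [h1]
  have := hr q
  change (Polynomial.X : K₀.{u}) ∉ ((PrimeSpectrum.comap (retr i)) _).asIdeal
  rw [PrimeSpectrum.comap_asIdeal, Ideal.mem_comap]
  exact this

/-- Morphisms out of the two charts of the doubled axes glue. -/
theorem exists_hom_charts (h : _root_.Stk.IsStack (AlgSp.J S) 𝒳) {a b : 𝒳.obj} (ha : 𝒳.p.obj a = D ι T)
    (χ : 𝒳.p.obj a ⟶ 𝒳.p.obj b) (z : Bool → 𝒳.obj) (κ : ∀ c, z c ⟶ a)
    (hκ : ∀ c, 𝒳.p.IsHomLift (chart ι T c) (κ c)) (n : ∀ c, z c ⟶ b)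
    (hn : ∀ c, 𝒳.p.map (n c) = 𝒳.p.map (κ c) ≫ χ)
    (compat : ∀ (i : ι) {a' : 𝒳.obj} {Z : Over S} (k : a' ⟶ z false) (k' : a' ⟶ z true) (g : Z ⟶ TP T A₀),
      (∀ q, sn T A₀ (g.left q) ∈ lineOpen.{u}) → 𝒳.p.IsHomLift (g ≫ mp T (ax₀ i)) k →
      𝒳.p.IsHomLift (g ≫ mp T (ax₀ i)) k' → k ≫ κ false = k' ≫ κ true → k ≫ n false = k' ≫ n true) :
    ∃ α : a ⟶ b, 𝒳.p.map α = χ ∧ ∀ c, κ c ≫ α = n c := by
  have hG := h.1
  let R₀ : Sieve (D ι T) := Sieve.ofArrows (fun _ : ULift.{u} Bool => X ι T) (fun c => chart ι T c.down)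
  let R : Sieve (𝒳.p.obj a) := R₀.pullback (eqToHom ha)
  have hR : R ∈ AlgSp.J S (𝒳.p.obj a) := GrothendieckTopology.pullback_stable _ _
    (ofArrows_two_mem _ _ (fun c => isOpenImmersion_chart ι T c.down) fun t => by
      obtain ⟨c, y, hy⟩ := cover_chart ι T t
      exact ⟨⟨c⟩, y, hy⟩)
  have hex : ∀ {a' : 𝒳.obj} (k : a' ⟶ a), R (𝒳.p.map k) → ∃ c, ∃ m : a' ⟶ z c, m ≫ κ c = k := by
    rintro a' k ⟨W, g, _, ⟨⟨c⟩⟩, hg⟩
    have := hκ c
    have : 𝒳.p.IsHomLift (g ≫ chart ι T c) k := IsHomLift.of_fac' 𝒳.p _ _ rfl ha (by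
      change 𝒳.p.map k = eqToHom rfl ≫ (g ≫ chart ι T c) ≫ eqToHom ha.symm
      rw [show g ≫ chart ι T c = 𝒳.p.map k ≫ eqToHom ha from hg]
      simp)
    obtain ⟨m, hm, -⟩ := IsFibGrpd.existsUnique_lift hG (chart ι T c) g (κ c) k
    exact ⟨c, m, hm.2⟩
  choose idx m hm using @hex
  have hbase : ∀ {a' : 𝒳.obj} (c : Bool) (μ : a' ⟶ z c), ∃ g : 𝒳.p.obj a' ⟶ X ι T,
      𝒳.p.IsHomLift g μ ∧ 𝒳.p.map (μ ≫ κ c) ≫ eqToHom ha = g ≫ chart ι T c := fun {a'} c μ => by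
    have := hκ c
    have hd := IsHomLift.domain_eq 𝒳.p (chart ι T c) (κ c)
    refine ⟨𝒳.p.map μ ≫ eqToHom hd, IsHomLift.of_fac 𝒳.p _ _ rfl hd (by simp), ?_⟩
    rw [𝒳.p.map_comp, IsHomLift.fac' 𝒳.p (chart ι T c) (κ c)]
    simp
  have hp : ∀ {a' : 𝒳.obj} (c c' : Bool) (μ : a' ⟶ z c) (μ' : a' ⟶ z c'), μ ≫ κ c = μ' ≫ κ c' →
      𝒳.p.map (μ ≫ n c) = 𝒳.p.map (μ' ≫ n c') := fun {a'} c c' μ μ' e => by
    rw [𝒳.p.map_comp, 𝒳.p.map_comp, hn, hn, ← 𝒳.p.map_comp_assoc, e, 𝒳.p.map_comp_assoc]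
  have hFT : ∀ {a' : 𝒳.obj} (μ : a' ⟶ z false) (μ' : a' ⟶ z true), μ ≫ κ false = μ' ≫ κ true →
      μ ≫ n false = μ' ≫ n true := by
    intro a' μ μ' e
    obtain ⟨g, hg, eg⟩ := hbase false μ
    obtain ⟨g', hg', eg'⟩ := hbase true μ'
    obtain ⟨rfl, l, hl⟩ := overlap_chart ι T g g' (eg.symm.trans ((congrArg (fun t => 𝒳.p.map t ≫ eqToHom ha) e).trans eg'))
    let O : ι → (𝒳.p.obj a').left.Opens := fun i => (g.left ≫ sn T (X₀ ι)) ⁻¹ᵁ axOpen i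
    let U : ULift.{u} ι → Over S := fun i => Over.mk ((O i.down).ι ≫ (𝒳.p.obj a').hom)
    let cU : ∀ i, U i ⟶ 𝒳.p.obj a' := fun i => Over.homMk (O i.down).ι rfl
    have hU : Sieve.ofArrows U cU ∈ AlgSp.J S (𝒳.p.obj a') :=
      ofArrows_two_mem _ _ (fun i => (inferInstance : IsOpenImmersion (O i.down).ι)) fun q => by
        have hq : sn T (X₀ ι) (g.left q) ∈ W₀ ι := by
          rw [← hl]
          have := congr($(mp_sn T (W₀.{u} ι).ι) (l.left q))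
          change sn T (X₀ ι) ((inclW ι T).left (l.left q)) ∈ _
          rw [show sn T (X₀ ι) ((inclW ι T).left (l.left q)) = (W₀.{u} ι).ι (sn T _ (l.left q)) from this]
          exact (sn T _ (l.left q)).2
        obtain ⟨i, hi⟩ := TopologicalSpace.Opens.mem_iSup.1 hq
        exact ⟨⟨i⟩, ⟨q, hi⟩, rfl⟩
    refine GrothLib.Stk.Descent.hom_ext hG (resSieve_ff h hU).2 _ _ (hp _ _ μ μ' e) ?_
    rintro a'' q ⟨W, r, _, ⟨i⟩, hr⟩
    have := hg
    have := hg'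
    let gq : 𝒳.p.obj a'' ⟶ X ι T := 𝒳.p.map q ≫ g
    have hgq : ∀ p, sn T (X₀ ι) (gq.left p) ∈ axOpen i.down := fun p => by
      change sn T (X₀ ι) (g.left ((𝒳.p.map q).left p)) ∈ _
      rw [← hr]
      exact ((r.left p : ↥(O i.down)).2)
    have e0 := eq_ax_of_range gq i.down hgq
    rw [← Category.assoc, ← Category.assoc]
    refine compat i.down (q ≫ μ) (q ≫ μ') (gq ≫ mp T (retr₀ i.down)) (mem_lineOpen_of_range gq i.down hgq) ?_ ?_
      (by rw [Category.assoc, Category.assoc, e])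
    · rw [e0]; infer_instance
    · rw [e0]; infer_instance
  have hindep : ∀ {a' : 𝒳.obj} (c c' : Bool) (μ : a' ⟶ z c) (μ' : a' ⟶ z c'), μ ≫ κ c = μ' ≫ κ c' →
      μ ≫ n c = μ' ≫ n c' := by
    intro a' c c' μ μ' e
    have hsame : ∀ (c : Bool) (μ μ' : a' ⟶ z c), μ ≫ κ c = μ' ≫ κ c → μ = μ' := fun c μ μ' e => by
      refine IsFibGrpd.hom_ext' hG (κ c) ?_ e
      obtain ⟨g, hg, eg⟩ := hbase c μ
      obtain ⟨g', hg', eg'⟩ := hbase c μ'
      have := isOpenImmersion_chart ι T c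
      have e' : g ≫ chart ι T c = g' ≫ chart ι T c := by rw [← eg, e, eg']
      have hgg : g = g' := Over.OverMorphism.ext ((cancel_mono (chart ι T c).left).1 congr($(e').left))
      subst hgg
      rw [IsHomLift.fac' 𝒳.p g μ, IsHomLift.fac' 𝒳.p g μ']
    cases c <;> cases c'
    · rw [hsame false μ μ' e]
    · exact hFT μ μ' e
    · exact (hFT μ' μ e.symm).symm
    · rw [hsame true μ μ' e]
  obtain ⟨α, hα, hα'⟩ := GrothLib.Stk.Descent.exists_hom hG (resSieve_ff h hR).1 (χ := χ)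
    { n := fun k hk => m k hk ≫ n _
      map_n := fun k hk => by rw [𝒳.p.map_comp, hn, ← 𝒳.p.map_comp_assoc, hm]
      comp := fun l k hk h' => by
        rw [← Category.assoc]
        exact hindep _ _ _ _ (by rw [Category.assoc, hm, hm]) }
  refine ⟨α, hα, fun c => ?_⟩
  have hi : R (𝒳.p.map (κ c)) := by
    have := hκ c
    refine ⟨X ι T, eqToHom (IsHomLift.domain_eq 𝒳.p (chart ι T c) (κ c)), chart ι T c,
      Presieve.ofArrows.mk (f := fun c : ULift.{u} Bool => chart ι T c.down) ⟨c⟩, ?_⟩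
    rw [IsHomLift.fac' 𝒳.p (chart ι T c) (κ c)]
    simp
  rw [hα' (κ c) hi]
  exact (hindep _ c _ (𝟙 _) ((hm (κ c) hi).trans (Category.id_comp _).symm)).trans (Category.id_comp _)

end GrothLib.Axes
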