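import Groth.Agent.Lib.AlgSt.Axes.Base
import Groth.Agent.Lib.AlgSt.SepDense
import Groth.Agent.Lib.AlgSt.OpenGlue

/-!
# Transport along doubled lines
-/

set_option backward.isDefEq.respectTransparency false
set_option backward.isDefEq.respectTransparency.types false

universe u

open CategoryTheory CategoryTheory.Limits AlgebraicGeometry Opposite

namespace GrothLib.Axes

open _root_.AlgSt GrothLib.FibCat GrothLib.AlgSt

variable {S : Scheme.{u}} {𝒳 : _root_.AlgSt.Cat S}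

/-- Vertical endomorphisms are determined after composing. -/
theorem vert_ext (h : _root_.FibCat.IsFibGrpd 𝒳.p) {a z x : 𝒳.obj} (u : z ⟶ x) {β β' : a ⟶ z}
    (h₀ : 𝒳.p.map β = 𝒳.p.map β') (e : β ≫ u = β' ≫ u) : β = β' :=
  IsFibGrpd.hom_ext' h u h₀ e

theorem map_vert_comp {a b c : 𝒳.obj} (β : a ⟶ a) (hβ : 𝒳.p.map β = 𝟙 _) (f : a ⟶ b) (g : b ⟶ c) :
    𝒳.p.map (β ≫ f ≫ g) = 𝒳.p.map (f ≫ g) := by
  rw [𝒳.p.map_comp, hβ, Category.id_comp]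

theorem exists_vert (h : _root_.FibCat.IsFibGrpd 𝒳.p) {a z x : 𝒳.obj} (u : z ⟶ x) (u' : a ⟶ x)
    (g : 𝒳.p.obj a ⟶ 𝒳.p.obj z) (e : g ≫ 𝒳.p.map u = 𝒳.p.map u') :
    ∃ β : a ⟶ z, 𝒳.p.map β = g ∧ β ≫ u = u' :=
  (IsFibGrpd.existsUnique_fac h u u' g e).exists

/-- Lift through a morphism over a projection. -/
theorem exists_over (h : _root_.FibCat.IsFibGrpd 𝒳.p) {Z Y X : Over S} (g : Z ⟶ Y) (f : Y ⟶ X) {z y x : 𝒳.obj}
    (u : y ⟶ x) (hu : 𝒳.p.IsHomLift f u) (u' : z ⟶ x) (hu' : 𝒳.p.IsHomLift (g ≫ f) u') :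
    ∃ θ : z ⟶ y, 𝒳.p.IsHomLift g θ ∧ θ ≫ u = u' :=
  (@IsFibGrpd.existsUnique_lift _ _ _ _ _ h _ _ _ f g _ _ _ u u' hu hu').exists

theorem over_unique (h : _root_.FibCat.IsFibGrpd 𝒳.p) {Z Y X : Over S} {g : Z ⟶ Y} (f : Y ⟶ X) {z y x : 𝒳.obj}
    (u : y ⟶ x) (hu : 𝒳.p.IsHomLift f u) {θ θ' : z ⟶ y} (hθ : 𝒳.p.IsHomLift g θ) (hθ' : 𝒳.p.IsHomLift g θ')
    (e : θ ≫ u = θ' ≫ u) : θ = θ' :=
  @IsFibGrpd.hom_ext _ _ _ _ _ h _ _ _ g f _ _ _ u hu θ θ' hθ hθ' e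

variable (T : Over S)

/-- The doubled line. -/
noncomputable abbrev L : Over S := D Unit T

/-- The origins of the doubled line. -/
noncomputable abbrev lineOrigin (b : Bool) : T ⟶ L T := sec T (zero₀ ≫ ax₀ () ≫ chart₀ b)

/-- The two copies of the line in the doubled line. -/
noncomputable abbrev lineChart (b : Bool) : TP T A₀ ⟶ L T := mp T (ax₀ () ≫ chart₀ b)

theorem lineChart_agree (b c : Bool) :
    mp T lineOpen.{u}.ι ≫ lineChart T b = mp T lineOpen.ι ≫ lineChart T c := by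
  rw [mp_comp, mp_comp]
  refine mp_eq_of_eq T ?_
  have hr : Set.range (lineOpen.{u}.ι ≫ ax₀ (ι := Unit) ()) ⊆ Set.range (W₀.{u} Unit).ι := by
    rintro _ ⟨p, rfl⟩
    rw [Scheme.Opens.range_ι]
    exact axOpen_le () (lineOpen_le () p.2)
  rw [← Category.assoc, ← Category.assoc, ← IsOpenImmersion.lift_fac (W₀.{u} Unit).ι _ hr, Category.assoc,
    Category.assoc, W₀_chart₀ b c]

variable {T} {x : 𝒳.obj}

/-- An automorphism of a pullback to the doubled line has one value at both origins. -/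
theorem line_const (h : _root_.FibCat.IsFibGrpd 𝒳.p)
    (hd : RepByAlgSpWith AlgSp.IsSeparatedMor (_root_.FibCat.diag (_root_.FibCat.toSelf 𝒳)))
    {z : 𝒳.obj} (u : z ⟶ x) (hu : 𝒳.p.IsHomLift (pr T (D₀ Unit)) u) (β : z ⟶ z) (hβ : 𝒳.p.map β = 𝟙 _)
    (e₀ e₁ : x ⟶ z) (h₀ : 𝒳.p.IsHomLift (lineOrigin T false) e₀) (h₁ : 𝒳.p.IsHomLift (lineOrigin T true) e₁)
    (he₀ : e₀ ≫ u = 𝟙 x) (he₁ : e₁ ≫ u = 𝟙 x) : e₀ ≫ β ≫ u = e₁ ≫ β ≫ u := by
  have hxT : 𝒳.p.obj x = T := IsHomLift.codomain_eq 𝒳.p (pr T (D₀ Unit)) u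
  obtain ⟨y, py, hpy⟩ := IsFibGrpd.exists_lift_of_eq h hxT (pr T A₀.{u})
  obtain ⟨y', κ, hκ⟩ := IsFibGrpd.exists_lift_of_eq h (IsHomLift.domain_eq 𝒳.p (pr T A₀.{u}) py) (mp T lineOpen.ι)
  have hθ : ∀ b, ∃ θ : y ⟶ z, 𝒳.p.IsHomLift (lineChart T b) θ ∧ θ ≫ u = py := fun b =>
    exists_over h _ _ u hu py (by rw [mp_pr]; exact hpy)
  choose θ hθl hθu using hθ
  have hεy : ∀ b, ∃ ε : y ⟶ y, 𝒳.p.map ε = 𝟙 _ ∧ ε ≫ py = θ b ≫ β ≫ u := fun b =>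
    exists_vert h py (θ b ≫ β ≫ u) (𝟙 _) (by
      rw [Category.id_comp, ← hθu b, 𝒳.p.map_comp, 𝒳.p.map_comp, 𝒳.p.map_comp, hβ, Category.id_comp])
  choose ε hε₁ hε₂ using hεy
  have hκθ : κ ≫ θ false = κ ≫ θ true := by
    have := hθl false
    have := hθl true
    refine over_unique h (g := mp T lineOpen.ι ≫ lineChart T false) _ u hu inferInstance ?_ (by simp [hθu])
    rw [lineChart_agree T false true]
    infer_instance
  have : IsSchemeTheoreticallyDominant (𝒳.p.map κ).left := by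
    have := hκ
    have := dominant_lineOpen T
    rw [IsHomLift.fac' 𝒳.p (mp T lineOpen.ι) κ]
    simp only [Over.comp_left]
    have : IsIso (eqToHom (IsHomLift.domain_eq 𝒳.p (mp T lineOpen.ι) κ)).left :=
      inferInstanceAs (IsIso ((Over.forget S).map _))
    have : IsIso (eqToHom (IsHomLift.codomain_eq 𝒳.p (mp T lineOpen.ι) κ).symm).left :=
      inferInstanceAs (IsIso ((Over.forget S).map _))
    infer_instance
  have hε : ε false = ε true := by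
    refine aut_eq_of_agree hd h κ _ _ (hε₁ false) (hε₁ true) (vert_ext h py ?_ ?_)
    · simp only [𝒳.p.map_comp, hε₁]
    · simp only [Category.assoc, hε₂, reassoc_of% hκθ]
  obtain ⟨ζ, hζl, hζ⟩ := exists_over h (sec T (zero₀.{u})) (pr T A₀) py hpy (𝟙 x)
    (by rw [sec_pr]; exact IsHomLift.id hxT)
  have hζθ : ∀ b (e : x ⟶ z), 𝒳.p.IsHomLift (lineOrigin T b) e → e ≫ u = 𝟙 x → e = ζ ≫ θ b := fun b e hl he => by
    have := hθl b
    have h2 : 𝒳.p.IsHomLift (sec T zero₀ ≫ lineChart T b) (ζ ≫ θ b) := inferInstance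
    rw [sec_mp] at h2
    exact over_unique h _ u hu hl h2 (by rw [he, Category.assoc, hθu, hζ])
  rw [hζθ false e₀ h₀ he₀, hζθ true e₁ h₁ he₁, Category.assoc, Category.assoc, ← hε₂, ← hε₂, hε]

section Transport

variable {ι : Type} [DecidableEq ι] [Finite ι]

/-- The map of axes chosen for a map of indices. -/
noncomputable def map₀X {κ : Type} [DecidableEq κ] [Finite κ] (f : κ → ι) (hf : Function.Injective f) :
    X₀.{u} κ ⟶ X₀ ι := (exists_map₀ f hf).choose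

/-- The map of doubled axes. -/
noncomputable def map₀D {κ : Type} [DecidableEq κ] [Finite κ] (f : κ → ι) (hf : Function.Injective f) :
    D₀.{u} κ ⟶ D₀ ι := (exists_map₀ f hf).choose_spec.choose

theorem ax₀_map₀X {κ : Type} [DecidableEq κ] [Finite κ] (f : κ → ι) (hf : Function.Injective f) (k : κ) :
    ax₀ k ≫ map₀X.{u} f hf = ax₀ (f k) := (exists_map₀ f hf).choose_spec.choose_spec.1 k

theorem chart₀_map₀D {κ : Type} [DecidableEq κ] [Finite κ] (f : κ → ι) (hf : Function.Injective f) (b : Bool) :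
    chart₀ b ≫ map₀D.{u} f hf = map₀X f hf ≫ chart₀ b := (exists_map₀ f hf).choose_spec.choose_spec.2.1 b

theorem inj_unit (i : ι) : Function.Injective (fun _ : Unit => i) := fun _ _ _ => rfl

/-- The doubled line along an axis. -/
noncomputable abbrev line (T : Over S) (i : ι) : L T ⟶ D ι T := mp T (map₀D (fun _ : Unit => i) (inj_unit i))

/-- The origins of the doubled axes. -/
noncomputable abbrev origin (ι : Type) [DecidableEq ι] [Finite ι] (T : Over S) (i : ι) (b : Bool) : T ⟶ D ι T :=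
  sec T (zero₀ ≫ ax₀ i ≫ chart₀ b)

theorem origin_eq (T : Over S) (i j : ι) (b : Bool) : origin ι T i b = origin ι T j b := by
  change sec T _ = sec T _
  rw [reassoc_of% (zero₀_ax₀.{u} i j)]

theorem lineOrigin_line (T : Over S) (i : ι) (b : Bool) : lineOrigin T b ≫ line T i = origin ι T i b := by
  rw [sec_mp]
  change sec T _ = sec T _
  simp only [Category.assoc, chart₀_map₀D, ← Category.assoc (ax₀ ()), ax₀_map₀X]

/-- Transport of a trivialisation along the doubled line of an axis. -/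
def Trans (T : Over S) (x : 𝒳.obj) {y : 𝒳.obj} (i : ι) (w₀ w₁ : x ⟶ y) : Prop :=
  ∃ (z : 𝒳.obj) (u : z ⟶ x) (v : z ⟶ y) (e₀ e₁ : x ⟶ z), 𝒳.p.IsHomLift (pr T (D₀ Unit)) u ∧
    𝒳.p.IsHomLift (line T i) v ∧ 𝒳.p.IsHomLift (lineOrigin T false) e₀ ∧ 𝒳.p.IsHomLift (lineOrigin T true) e₁ ∧
    e₀ ≫ u = 𝟙 x ∧ e₁ ≫ u = 𝟙 x ∧ e₀ ≫ v = w₀ ∧ e₁ ≫ v = w₁

variable {y : 𝒳.obj} {i : ι} {w₀ w₁ : x ⟶ y}

theorem Trans.lift₀ (h : Trans T x i w₀ w₁) : 𝒳.p.IsHomLift (origin ι T i false) w₀ := by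
  obtain ⟨z, u, v, e₀, e₁, _, hv, h₀, _, _, _, rfl, _⟩ := h
  rw [← lineOrigin_line]; infer_instance

theorem Trans.lift₁ (h : Trans T x i w₀ w₁) : 𝒳.p.IsHomLift (origin ι T i true) w₁ := by
  obtain ⟨z, u, v, e₀, e₁, _, hv, _, h₁, _, _, _, rfl⟩ := h
  rw [← lineOrigin_line]; infer_instance

theorem Trans.comp (h : Trans T x i w₀ w₁) {y' : 𝒳.obj} (φ : y ⟶ y') (hφ : 𝒳.p.IsHomLift (𝟙 (D ι T)) φ) :
    Trans T x i (w₀ ≫ φ) (w₁ ≫ φ) := by
  obtain ⟨z, u, v, e₀, e₁, hu, hv, h₀, h₁, he₀, he₁, rfl, rfl⟩ := h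
  exact ⟨z, u, v ≫ φ, e₀, e₁, hu, IsHomLift.comp_lift_id_right' 𝒳.p _ v (D ι T) φ, h₀, h₁, he₀, he₁,
    (Category.assoc _ _ _).symm, (Category.assoc _ _ _).symm⟩

variable (hG : _root_.FibCat.IsFibGrpd 𝒳.p)
include hG

theorem Trans.smul (h : Trans T x i w₀ w₁) (a : x ⟶ x) (ha : 𝒳.p.map a = 𝟙 _) :
    Trans T x i (a ≫ w₀) (a ≫ w₁) := by
  obtain ⟨z, u, v, e₀, e₁, hu, hv, h₀, h₁, he₀, he₁, rfl, rfl⟩ := h
  have : IsIso a := (IsFibGrpd.isIso_iff hG a).2 (by rw [ha]; infer_instance)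
  have hxT : 𝒳.p.obj x = T := IsHomLift.codomain_eq 𝒳.p (pr T (D₀ Unit)) u
  have hal : 𝒳.p.IsHomLift (𝟙 T) a := IsHomLift.of_fac' 𝒳.p _ _ hxT hxT (by simp [ha])
  have hil : 𝒳.p.IsHomLift (𝟙 T) (inv a) := IsHomLift.lift_id_inv_isIso _ _ _
  have hc : ∀ {g : T ⟶ L T} {e : x ⟶ z}, 𝒳.p.IsHomLift g e → 𝒳.p.IsHomLift g (a ≫ e) := fun {g e} he =>
    @IsHomLift.comp_lift_id_left' _ _ _ _ 𝒳.p _ _ _ T a hal _ _ g e he
  exact ⟨z, u ≫ inv a, v, a ≫ e₀, a ≫ e₁, IsHomLift.comp_lift_id_right' 𝒳.p _ u T (inv a), hv, hc h₀, hc h₁,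
    by rw [Category.assoc, ← Category.assoc e₀, he₀]; simp, by rw [Category.assoc, ← Category.assoc e₁, he₁]; simp,
    Category.assoc _ _ _, Category.assoc _ _ _⟩


theorem exists_trans {z : 𝒳.obj} (u : z ⟶ x) (hu : 𝒳.p.IsHomLift (pr T (D₀ Unit)) u) (v : z ⟶ y)
    (hv : 𝒳.p.IsHomLift (line T i) v) (w₀ : x ⟶ y) (hw₀ : 𝒳.p.IsHomLift (origin ι T i false) w₀) :
    ∃ w₁, Trans T x i w₀ w₁ := by
  have hxT : 𝒳.p.obj x = T := IsHomLift.codomain_eq 𝒳.p (pr T (D₀ Unit)) u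
  have he : ∀ b, ∃ e : x ⟶ z, 𝒳.p.IsHomLift (lineOrigin T b) e ∧ e ≫ u = 𝟙 x := fun b =>
    exists_over hG _ _ u hu (𝟙 x) (by rw [sec_pr]; exact IsHomLift.id hxT)
  choose e hel heu using he
  have := hel false
  have hev : 𝒳.p.IsHomLift (origin ι T i false) (e false ≫ v) := by
    rw [← lineOrigin_line]; infer_instance
  obtain ⟨a, ha, haw⟩ := exists_over hG (𝟙 T) _ (e false ≫ v) hev w₀ (by rw [Category.id_comp]; exact hw₀)
  have := ha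
  have ha' : 𝒳.p.map a = 𝟙 _ := by
    rw [IsHomLift.fac' 𝒳.p (𝟙 T) a]
    simp
  have h : Trans T x i (e false ≫ v) (e true ≫ v) :=
    ⟨z, u, v, e false, e true, hu, hv, hel false, hel true, heu false, heu true, rfl, rfl⟩
  exact ⟨a ≫ e true ≫ v, haw ▸ h.smul hG a ha'⟩

/-- Transport is well defined. -/
theorem Trans.unique
    (hd : RepByAlgSpWith AlgSp.IsSeparatedMor (_root_.FibCat.diag (_root_.FibCat.toSelf 𝒳)))
    {w₁' : x ⟶ y} (h : Trans T x i w₀ w₁) (h' : Trans T x i w₀ w₁') : w₁ = w₁' := by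
  obtain ⟨z, u, v, e₀, e₁, hu, hv, h₀, h₁, he₀, he₁, hw₀, rfl⟩ := h
  obtain ⟨z', u', v', e₀', e₁', hu', hv', h₀', h₁', he₀', he₁', hw₀', rfl⟩ := h'
  obtain ⟨θ, hθ, hθv⟩ := exists_over hG (𝟙 (L T)) _ v hv v' (by rw [Category.id_comp]; exact hv')
  have : 𝒳.p.IsHomLift (pr T (D₀ Unit)) (θ ≫ u) := IsHomLift.comp_lift_id_left' 𝒳.p (L T) θ _ u
  obtain ⟨β, hβ, hβu⟩ := exists_over hG (𝟙 (L T)) _ u' hu' (θ ≫ u) (by rw [Category.id_comp]; assumption)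
  have hβ' : 𝒳.p.map β = 𝟙 _ := by rw [IsHomLift.fac' 𝒳.p (𝟙 (L T)) β]; simp
  have hc := line_const hG hd u' hu' β hβ' e₀' e₁' h₀' h₁' he₀' he₁'
  rw [hβu] at hc
  have hxT : 𝒳.p.obj x = T := IsHomLift.codomain_eq 𝒳.p (pr T (D₀ Unit)) u
  have key : ∀ (b : Bool) (e e' : x ⟶ z) (ec : x ⟶ z'), 𝒳.p.IsHomLift (lineOrigin T b) e → e ≫ u = 𝟙 x →
      𝒳.p.IsHomLift (lineOrigin T b) ec → ec ≫ v' = (ec ≫ θ ≫ u) ≫ e ≫ v := by
    intro b e e' ec hel heu hec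
    obtain ⟨a, ha, hae⟩ : ∃ a : x ⟶ x, 𝒳.p.IsHomLift (𝟙 T) a ∧ a ≫ e = ec ≫ θ := by
      refine exists_over hG (𝟙 T) _ e hel (ec ≫ θ) ?_
      rw [Category.id_comp]
      exact IsHomLift.comp_lift_id_right' 𝒳.p _ ec (L T) θ
    have : a = ec ≫ θ ≫ u := by rw [← reassoc_of% hae, heu, Category.comp_id]
    rw [← this, ← hθv, ← Category.assoc, ← hae, Category.assoc]
  have k₀ := key false e₀ e₀ e₀' h₀ he₀ h₀'
  have k₁ := key true e₁ e₁ e₁' h₁ he₁ h₁'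
  rw [hw₀, hw₀'] at k₀
  have hlw : 𝒳.p.IsHomLift (origin ι T i false) w₀ := by rw [← hw₀, ← lineOrigin_line]; infer_instance
  have hal : 𝒳.p.IsHomLift (𝟙 T) (e₀' ≫ θ ≫ u) := by
    have : 𝒳.p.IsHomLift (lineOrigin T false ≫ pr T (D₀ Unit)) (e₀' ≫ θ ≫ u) := inferInstance
    rwa [sec_pr] at this
  have hone : e₀' ≫ θ ≫ u = 𝟙 x :=
    over_unique hG _ w₀ hlw hal (IsHomLift.id hxT) (k₀.symm.trans (Category.id_comp _).symm)
  rw [← hc, hone, Category.id_comp] at k₁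
  exact k₁.symm

end Transport

end GrothLib.Axes
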