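import Mathlib.AlgebraicGeometry.Gluing
import Mathlib.AlgebraicGeometry.AffineScheme
import Mathlib.AlgebraicGeometry.Limits
import Mathlib.Algebra.Polynomial.Eval.Defs
import Mathlib.Algebra.Ring.Subring.Basic
import Mathlib.RingTheory.Polynomial.Basic

/-!
# Several axes with a doubled origin, over the integers
-/

set_option backward.isDefEq.respectTransparency false
set_option backward.isDefEq.respectTransparency.types false

universe u

open CategoryTheory CategoryTheory.Limits AlgebraicGeometry Polynomial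

namespace GrothLib.Axes

/-- The base ring. -/
abbrev Z₀ : Type u := ULift.{u} ℤ

/-- The coordinate ring of a line. -/
abbrev K₀ : Type u := Z₀.{u}[X]

variable (ι : Type) [DecidableEq ι] [Finite ι]

/-- The coordinate ring of the axes indexed by `ι`. -/
noncomputable def ring : Subring (ι → K₀.{u}) where
  carrier := {f | ∀ i j, (f i).eval 0 = (f j).eval 0}
  one_mem' i j := by simp
  zero_mem' i j := by simp
  add_mem' {a b} ha hb i j := by simp [ha i j, hb i j]
  mul_mem' {a b} ha hb i j := by simp [ha i j, hb i j]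
  neg_mem' {a} ha i j := by simp [ha i j]

variable {ι}

theorem eval_eq (f : ring.{u} ι) (i j : ι) : (f.1 i).eval 0 = (f.1 j).eval 0 := f.2 i j

/-- Restriction to an axis. -/
noncomputable def toAxis (i : ι) : ring.{u} ι →+* K₀.{u} := (Pi.evalRingHom _ i).comp (ring ι).subtype

theorem toAxis_apply (i : ι) (f : ring.{u} ι) : toAxis i f = f.1 i := rfl

/-- The retraction onto an axis. -/
noncomputable def retr (i : ι) : K₀.{u} →+* ring.{u} ι :=
  (Pi.ringHom fun j => if j = i then RingHom.id _ else C.comp (evalRingHom 0)).codRestrict _ fun p j k => by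
    change ((if j = i then RingHom.id _ else C.comp (evalRingHom 0)) p).eval 0 =
      ((if k = i then RingHom.id _ else C.comp (evalRingHom 0)) p).eval 0
    split_ifs <;> simp

theorem retr_apply (i j : ι) (p : K₀.{u}) : (retr i p).1 j = if j = i then p else C (p.eval 0) := by
  change (if j = i then RingHom.id _ else C.comp (evalRingHom 0)) p = _
  split_ifs <;> rfl

theorem toAxis_retr_self (i : ι) : (toAxis i).comp (retr i) = RingHom.id K₀.{u} := by
  refine RingHom.ext fun p => ?_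
  simp [toAxis_apply, retr_apply]

theorem toAxis_retr_ne {i j : ι} (h : j ≠ i) : (toAxis j).comp (retr i) = C.comp (evalRingHom (0 : Z₀.{u})) := by
  refine RingHom.ext fun p => ?_
  simp [toAxis_apply, retr_apply, h]

/-- The coordinate of an axis. -/
noncomputable def coord (i : ι) : ring.{u} ι := retr i X

theorem toAxis_coord_self (i : ι) : toAxis i (coord.{u} i) = X := RingHom.congr_fun (toAxis_retr_self i) X

theorem toAxis_coord_ne {i j : ι} (h : j ≠ i) : toAxis j (coord.{u} i) = 0 := by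
  simp [toAxis_apply, coord, retr_apply, h]

theorem coord_mul {i j : ι} (h : i ≠ j) : coord.{u} i * coord j = 0 := by
  refine Subtype.ext (funext fun k => ?_)
  change toAxis k (coord i * coord j) = 0
  rw [map_mul]
  by_cases hk : k = i
  · rw [toAxis_coord_ne (hk ▸ h : k ≠ j), mul_zero]
  · rw [toAxis_coord_ne hk, zero_mul]

/-- Restriction of the axes along a map of index sets. -/
noncomputable def res {κ : Type} [DecidableEq κ] [Finite κ] (f : κ → ι) : ring.{u} ι →+* ring.{u} κ :=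
  ((Pi.ringHom fun k => Pi.evalRingHom _ (f k)).comp (ring ι).subtype).codRestrict _ fun g i j => g.2 (f i) (f j)

theorem toAxis_res {κ : Type} [DecidableEq κ] [Finite κ] (f : κ → ι) (k : κ) :
    (toAxis k).comp (res f) = toAxis.{u} (f k) := rfl

variable (ι) in
/-- The axes. -/
noncomputable def X₀ : Scheme.{u} := Spec (CommRingCat.of (ring.{u} ι))

/-- The line. -/
noncomputable def A₀ : Scheme.{u} := Spec (CommRingCat.of K₀.{u})

/-- The point. -/
noncomputable def P₀ : Scheme.{u} := Spec (CommRingCat.of Z₀.{u})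

/-- The origin of the line. -/
noncomputable def zero₀ : P₀.{u} ⟶ A₀ := Spec.map (CommRingCat.ofHom (evalRingHom 0))

/-- The line to the point. -/
noncomputable def lineStr : A₀.{u} ⟶ P₀ := Spec.map (CommRingCat.ofHom C)

theorem zero₀_lineStr : zero₀.{u} ≫ lineStr = 𝟙 _ := by
  simp only [zero₀, lineStr, P₀, A₀, ← Spec.map_comp, ← CommRingCat.ofHom_comp]
  rw [show (evalRingHom (0 : Z₀.{u})).comp C = RingHom.id _ from RingHom.ext fun a => eval_C]
  exact Spec.map_id _

/-- An axis. -/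
noncomputable def ax₀ (i : ι) : A₀.{u} ⟶ X₀ ι := Spec.map (CommRingCat.ofHom (toAxis i))

/-- The projection to an axis. -/
noncomputable def retr₀ (i : ι) : X₀.{u} ι ⟶ A₀ := Spec.map (CommRingCat.ofHom (retr i))

theorem zero₀_ax₀ (i j : ι) : zero₀.{u} ≫ ax₀ i = zero₀ ≫ ax₀ j := by
  simp only [zero₀, ax₀, P₀, A₀, X₀, ← Spec.map_comp, ← CommRingCat.ofHom_comp]
  congr 2
  exact RingHom.ext fun f => eval_eq f i j

theorem ax₀_retr₀_self (i : ι) : ax₀.{u} i ≫ retr₀ i = 𝟙 _ := by
  simp only [ax₀, retr₀, A₀, X₀, ← Spec.map_comp, ← CommRingCat.ofHom_comp, toAxis_retr_self]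
  exact Spec.map_id _

theorem ax₀_retr₀_ne {i j : ι} (h : j ≠ i) : ax₀.{u} j ≫ retr₀ i = lineStr ≫ zero₀ := by
  simp only [ax₀, retr₀, lineStr, zero₀, P₀, A₀, X₀, ← Spec.map_comp, ← CommRingCat.ofHom_comp, toAxis_retr_ne h]

/-- The punctured axis. -/
noncomputable def axOpen (i : ι) : (X₀.{u} ι).Opens := PrimeSpectrum.basicOpen (coord i)

/-- The punctured line. -/
noncomputable def lineOpen : A₀.{u}.Opens := PrimeSpectrum.basicOpen (X : K₀.{u})

theorem disjoint_axOpen {i j : ι} (h : i ≠ j) (p : ↥(X₀.{u} ι)) (hi : p ∈ axOpen i) (hj : p ∈ axOpen j) : False := by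
  have : p ∈ (PrimeSpectrum.basicOpen (coord.{u} i * coord j)) := by
    rw [PrimeSpectrum.basicOpen_mul]; exact ⟨hi, hj⟩
  rw [coord_mul h, PrimeSpectrum.basicOpen_zero] at this
  exact this

theorem lineOpen_le (i : ι) : lineOpen.{u} ≤ ax₀ i ⁻¹ᵁ axOpen i := fun p hp => by
  change (coord i : ring.{u} ι) ∉ ((PrimeSpectrum.comap (toAxis i)) p).asIdeal
  rw [PrimeSpectrum.comap_asIdeal, Ideal.mem_comap, toAxis_coord_self]
  exact hp

theorem zero₀_not_mem (i j : ι) (p : ↥P₀.{u}) : ax₀ j (zero₀ p) ∉ axOpen i := by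
  intro h
  change (coord i : ring.{u} ι) ∉
    ((PrimeSpectrum.comap (toAxis j)) (PrimeSpectrum.comap (evalRingHom (0 : Z₀.{u})) p)).asIdeal at h
  apply h
  simp only [PrimeSpectrum.comap_asIdeal, Ideal.mem_comap]
  by_cases hj : j = i
  · subst hj; rw [toAxis_coord_self]; simp
  · rw [toAxis_coord_ne hj]; simp

variable (ι) in
/-- The complement of the origin. -/
noncomputable def W₀ : (X₀.{u} ι).Opens := ⨆ i, axOpen i

theorem axOpen_le (i : ι) : axOpen.{u} i ≤ W₀ ι := le_iSup (fun j => axOpen.{u} j) i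

variable (ι) in
/-- The axes with doubled origin. -/
noncomputable def D₀ : Scheme.{u} := pushout (W₀ ι).ι (W₀.{u} ι).ι

/-- The two charts. -/
noncomputable def chart₀ : Bool → (X₀.{u} ι ⟶ D₀ ι)
  | false => pushout.inl (W₀ ι).ι (W₀ ι).ι
  | true => pushout.inr (W₀ ι).ι (W₀ ι).ι

instance isOpenImmersion_chart₀ (b : Bool) : IsOpenImmersion (chart₀.{u} (ι := ι) b) := by
  cases b <;> simp only [chart₀] <;> infer_instance

theorem W₀_chart₀ (b c : Bool) : (W₀.{u} ι).ι ≫ chart₀ b = (W₀ ι).ι ≫ chart₀ c := by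
  have h : (W₀.{u} ι).ι ≫ chart₀ false = (W₀ ι).ι ≫ chart₀ true := pushout.condition
  cases b <;> cases c <;> first | rfl | exact h | exact h.symm

theorem cover_chart₀ (t : ↥(D₀.{u} ι)) : ∃ b y, chart₀ b y = t := by
  obtain ⟨k, y, rfl⟩ := Scheme.IsLocallyDirected.ι_jointly_surjective (span (W₀.{u} ι).ι (W₀ ι).ι) t
  rcases k with (_ | _ | _)
  · refine ⟨false, (W₀ ι).ι y, ?_⟩
    change pushout.inl (W₀ ι).ι (W₀ ι).ι ((W₀ ι).ι y) = _
    rw [← Scheme.Hom.comp_apply]
    exact congrArg (fun φ : (W₀ ι).toScheme ⟶ D₀ ι => φ y) (colimit.w (span (W₀.{u} ι).ι (W₀ ι).ι) WalkingSpan.Hom.fst)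
  · exact ⟨false, y, rfl⟩
  · exact ⟨true, y, rfl⟩

theorem meet_chart₀ (x y : ↥(X₀.{u} ι)) (hxy : chart₀ false x = chart₀ true y) : x = y ∧ x ∈ W₀ ι := by
  obtain ⟨k, fi, fj, z, hzi, hzj⟩ :=
    (Scheme.IsLocallyDirected.ι_eq_ι_iff (F := span (W₀.{u} ι).ι (W₀ ι).ι) (i := WalkingSpan.left)
      (j := WalkingSpan.right)).1 hxy
  rcases k with (_ | k)
  · obtain rfl : fi = WalkingSpan.Hom.fst := Subsingleton.elim _ _
    obtain rfl : fj = WalkingSpan.Hom.snd := Subsingleton.elim _ _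
    exact ⟨hzi.symm.trans hzj, hzi ▸ z.2⟩
  · cases fi
    cases fj

theorem overlap_chart₀ {Z : Scheme.{u}} (g g' : Z ⟶ X₀ ι) (h : g ≫ chart₀ false = g' ≫ chart₀ true) :
    g = g' ∧ ∃ l, l ≫ (W₀ ι).ι = g := by
  have hr : Set.range g ⊆ Set.range (W₀ ι).ι := by
    rintro _ ⟨z, rfl⟩
    rw [Scheme.Opens.range_ι]
    refine (meet_chart₀ (g z) (g' z) ?_).2
    rw [← Scheme.Hom.comp_apply, h]; rfl
  refine ⟨?_, IsOpenImmersion.lift _ g hr, IsOpenImmersion.lift_fac _ _ _⟩
  rw [← cancel_mono (chart₀ true), ← h, ← IsOpenImmersion.lift_fac (W₀ ι).ι g hr, Category.assoc, Category.assoc,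
    W₀_chart₀ false true]

theorem exists_map₀ {κ : Type} [DecidableEq κ] [Finite κ] (f : κ → ι) (hf : Function.Injective f) :
    ∃ (m : X₀.{u} κ ⟶ X₀ ι) (M : D₀.{u} κ ⟶ D₀ ι),
      (∀ k, ax₀ k ≫ m = ax₀ (f k)) ∧ (∀ b, chart₀ b ≫ M = m ≫ chart₀ b) ∧
      (∀ k (p : ↥(X₀.{u} κ)), p ∈ axOpen k → m p ∈ axOpen (f k)) := by
  let m : X₀.{u} κ ⟶ X₀ ι := Spec.map (CommRingCat.ofHom (res f))
  have hm : ∀ k, axOpen k ≤ m ⁻¹ᵁ axOpen (f k) := fun k p hp => by
    change (coord (f k) : ring.{u} ι) ∉ ((PrimeSpectrum.comap (res f)) p).asIdeal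
    rw [PrimeSpectrum.comap_asIdeal, Ideal.mem_comap]
    have e : res f (coord (f k)) = coord.{u} k := Subtype.ext (funext fun l => by
      change toAxis (f l) (coord (f k)) = toAxis l (coord k)
      by_cases hl : l = k
      · subst hl; rw [toAxis_coord_self, toAxis_coord_self]
      · rw [toAxis_coord_ne hl, toAxis_coord_ne (fun e => hl (hf e))])
    rw [e]; exact hp
  have hW : W₀ κ ≤ m ⁻¹ᵁ W₀ ι := iSup_le fun k => (hm k).trans ((Scheme.Hom.preimage_mono m (axOpen_le (f k))))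
  let l := IsOpenImmersion.lift (W₀ ι).ι ((W₀ κ).ι ≫ m) (by
    rintro _ ⟨z, rfl⟩
    rw [Scheme.Opens.range_ι]
    exact hW z.2)
  have hl : l ≫ (W₀ ι).ι = (W₀ κ).ι ≫ m := IsOpenImmersion.lift_fac _ _ _
  refine ⟨m, pushout.desc (m ≫ chart₀ false) (m ≫ chart₀ true)
    (by rw [← reassoc_of% hl, ← reassoc_of% hl, W₀_chart₀ false true]), fun k => ?_, fun b => ?_, fun k p hp => hm k hp⟩
  · simp only [m, ax₀, X₀, A₀, ← Spec.map_comp, ← CommRingCat.ofHom_comp, toAxis_res]
  · cases b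
    · exact pushout.inl_desc _ _ _
    · exact pushout.inr_desc _ _ _

/-- The punctured axis lies on the axis. -/
theorem axOpen_ι_retr₀_ax₀ (i : ι) : (axOpen.{u} i).ι ≫ retr₀ i ≫ ax₀ i = (axOpen i).ι := by
  let R : CommRingCat.{u} := CommRingCat.of (ring.{u} ι)
  let L := Localization.Away (coord.{u} i : R)
  let F : Spec (CommRingCat.of L) ⟶ Spec R := Spec.map (CommRingCat.ofHom (algebraMap R L))
  have hr : Set.range (axOpen.{u} i).ι ⊆ Set.range F := by
    rw [Scheme.Opens.range_ι]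
    exact (PrimeSpectrum.localization_away_comap_range L (coord.{u} i : R)).symm.subset
  let l := IsOpenImmersion.lift F (axOpen.{u} i).ι hr
  have hl : l ≫ F = (axOpen.{u} i).ι := IsOpenImmersion.lift_fac _ _ _
  rw [← hl, Category.assoc]
  congr 1
  simp only [F, retr₀, ax₀, R, X₀, A₀, ← Spec.map_comp, ← CommRingCat.ofHom_comp]
  congr 2
  refine RingHom.ext fun g => ?_
  change algebraMap (ring.{u} ι) L (retr i (toAxis i g)) = algebraMap (ring.{u} ι) L g
  rw [← sub_eq_zero, ← map_sub]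
  refine (IsLocalization.map_eq_zero_iff (Submonoid.powers (coord.{u} i)) L _).2
    ⟨⟨coord i, Submonoid.mem_powers _⟩, Subtype.ext (funext fun j => ?_)⟩
  change toAxis j (coord i * (retr i (toAxis i g) - g)) = 0
  by_cases hj : j = i
  · subst hj
    rw [map_mul, map_sub]
    change _ * (((toAxis j).comp (retr j)) (toAxis j g) - _) = 0
    rw [toAxis_retr_self, RingHom.id_apply, sub_self, mul_zero]
  · rw [map_mul, toAxis_coord_ne hj, zero_mul]

end GrothLib.Axes
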