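import Groth.Agent.Lib.AlgSt.Axes.Twisted
import Groth.Agent.Lib.AlgSt.IsoClPoints

/-!
# Automorphism groups and presheaves of isomorphism classes
-/

set_option backward.isDefEq.respectTransparency false
set_option backward.isDefEq.respectTransparency.types false

universe u

open CategoryTheory CategoryTheory.Limits AlgebraicGeometry Opposite

namespace GrothLib.Axes

open _root_.AlgSt GrothLib.FibCat GrothLib.AlgSt

variable {S : Scheme.{u}} {𝒳 𝒴 : _root_.AlgSt.Cat S}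

/-- Objects with corresponding isomorphism classes. -/
def Corr (φ : _root_.IsoNat.FIso 𝒳 𝒴) (T : Over S) (x : 𝒳.obj) (y : 𝒴.obj) : Prop :=
  ∃ (hx : 𝒳.p.obj x = T) (hy : 𝒴.p.obj y = T),
    φ.toEquiv T (_root_.IsoNat.cls ⟨x, hx⟩) = _root_.IsoNat.cls ⟨y, hy⟩

/-- The vertical endomorphisms of an object commute. -/
def VertComm (x : 𝒳.obj) : Prop :=
  ∀ a b : x ⟶ x, 𝒳.p.map a = 𝟙 _ → 𝒳.p.map b = 𝟙 _ → a ≫ b = b ≫ a

variable {φ : _root_.IsoNat.FIso 𝒳 𝒴} {T : Over S} {x : 𝒳.obj} {y : 𝒴.obj}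

theorem Corr.exists_right (φ : _root_.IsoNat.FIso 𝒳 𝒴) (hx : 𝒳.p.obj x = T) : ∃ y, Corr φ T x y := by
  obtain ⟨⟨y, hy⟩, he⟩ := Quotient.exists_rep (φ.toEquiv T (_root_.IsoNat.cls ⟨x, hx⟩))
  exact ⟨y, hx, hy, he.symm⟩

theorem Corr.symm (h : Corr φ T x y) (ψ : _root_.IsoNat.FIso 𝒴 𝒳) (hψ : ∀ T, ψ.toEquiv T = (φ.toEquiv T).symm) :
    Corr ψ T y x := by
  obtain ⟨hx, hy, e⟩ := h
  exact ⟨hy, hx, by rw [hψ, ← e, Equiv.symm_apply_apply]⟩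

/-- Morphisms transfer to corresponding objects. -/
theorem Corr.transfer {T' : Over S} {x' : 𝒳.obj} {y' : 𝒴.obj} (h' : Corr φ T' x' y') (h : Corr φ T x y)
    (g : T' ⟶ T) (u : x' ⟶ x) (hu : 𝒳.p.IsHomLift g u) : ∃ v : y' ⟶ y, 𝒴.p.IsHomLift g v := by
  obtain ⟨hx', hy', e'⟩ := h'
  obtain ⟨hx, hy, e⟩ := h
  obtain ⟨w', w, b, hb, f', f⟩ := φ.natural g ⟨x', hx'⟩ ⟨x, hx⟩ u hu
  obtain ⟨i⟩ := Quotient.exact (e'.symm.trans f')
  obtain ⟨j⟩ := Quotient.exact (f.symm.trans e)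
  have := hb
  have := i.hom.2
  have := j.hom.2
  exact ⟨i.hom.1 ≫ b ≫ j.hom.1,
    IsHomLift.comp_lift_id_left' 𝒴.p T' i.hom.1 g _⟩

variable {ι : Type} [DecidableEq ι] [Finite ι]

theorem Adm.transfer (hG : _root_.FibCat.IsFibGrpd 𝒳.p) {X : 𝒳.obj} {Y : 𝒴.obj} (hA : Adm ι T x X)
    (h : Corr φ T x y) (H : Corr φ (D ι T) X Y) : Adm ι T y Y := by
  obtain ⟨hX, hY, -⟩ := id H
  refine ⟨hY, fun b => ?_, fun i => ?_⟩
  · obtain ⟨z, u, v, hu, hv⟩ := hA.chart b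
    obtain ⟨z', hz⟩ := Corr.exists_right φ (IsHomLift.domain_eq 𝒳.p (pr T (X₀ ι)) u)
    obtain ⟨u', hu'⟩ := hz.transfer h _ u hu
    obtain ⟨v', hv'⟩ := hz.transfer H _ v hv
    exact ⟨z', u', v', hu', hv'⟩
  · obtain ⟨z, u, v, hu, hv⟩ := hA.line i
    obtain ⟨z', hz⟩ := Corr.exists_right φ (IsHomLift.domain_eq 𝒳.p (pr T (D₀ Unit)) u)
    obtain ⟨u', hu'⟩ := hz.transfer h _ u hu
    obtain ⟨v', hv'⟩ := hz.transfer H _ v hv
    exact ⟨z', u', v', hu', hv'⟩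

theorem HasHol.coset (hG : _root_.FibCat.IsFibGrpd 𝒳.p) {X : 𝒳.obj} {h : ι → (x ⟶ x)} (H : HasHol T x X h)
    (a b : x ⟶ x) (ha : 𝒳.p.map a = 𝟙 _) (hb : 𝒳.p.map b = 𝟙 _) : HasHol T x X (fun i => a ≫ h i ≫ b) := by
  obtain ⟨hh, w₀, w₁, hw⟩ := H
  have : IsIso b := (IsFibGrpd.isIso_iff hG b).2 (by rw [hb]; infer_instance)
  refine ⟨fun i => by simp [ha, hh, hb], a ≫ w₀, inv b ≫ w₁, fun i => ?_⟩
  simpa using (hw i).smul hG a ha

theorem map_inv_vert {a : x ⟶ x} [IsIso a] (ha : 𝒳.p.map a = 𝟙 _) : 𝒳.p.map (inv a) = 𝟙 _ := by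
  have := congrArg 𝒳.p.map (IsIso.hom_inv_id a)
  rwa [𝒳.p.map_comp, 𝒳.p.map_id, ha, Category.id_comp] at this

/-- Holonomy can be normalised at one axis. -/
theorem exists_hol_normal (hG : _root_.FibCat.IsFibGrpd 𝒳.p) [Nonempty ι] {X : 𝒳.obj} (hA : Adm ι T x X) (i₀ : ι) :
    ∃ h, HasHol (ι := ι) T x X h ∧ h i₀ = 𝟙 x := by
  obtain ⟨h, H⟩ := exists_hol hG hA
  have : IsIso (h i₀) := (IsFibGrpd.isIso_iff hG _).2 (by rw [H.1]; infer_instance)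
  exact ⟨_, H.coset hG (𝟙 x) (inv (h i₀)) (𝒳.p.map_id x) (map_inv_vert (H.1 i₀)), by simp⟩

/-- Normalised holonomy is unique for commuting automorphisms. -/
theorem hol_eq (hG : _root_.FibCat.IsFibGrpd 𝒳.p) [Nonempty ι]
    (hd : RepByAlgSpWith AlgSp.IsSeparatedMor (_root_.FibCat.diag (_root_.FibCat.toSelf 𝒳)))
    (hxT : 𝒳.p.obj x = T) (hc : VertComm x) {X : 𝒳.obj} {h h' : ι → (x ⟶ x)} (H : HasHol T x X h)
    (H' : HasHol T x X h') (i₀ : ι) (e : h i₀ = h' i₀) : h = h' := by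
  obtain ⟨a, b, ha, hb, hab⟩ := hol_unique hG hd hxT H H'
  have : IsIso (h i₀) := (IsFibGrpd.isIso_iff hG _).2 (by rw [H.1]; infer_instance)
  have h1 : a ≫ b = 𝟙 x := by
    have k := hab i₀
    rw [← e, hc (h i₀) b (H.1 i₀) hb, ← Category.assoc] at k
    exact (cancel_mono (h i₀)).1 (k.symm.trans (Category.id_comp _).symm)
  funext i
  rw [hab i, hc (h i) b (H.1 i) hb, reassoc_of% h1]

variable (hG : _root_.FibCat.IsFibGrpd 𝒳.p) (hG' : _root_.FibCat.IsFibGrpd 𝒴.p)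

include hG hG'

/-- Restrictions of the holonomy transfer. -/
theorem hol_pull_eq {κ : Type} [DecidableEq κ] [Finite κ] [Nonempty κ] [Nonempty ι]
    (hst : _root_.Stk.IsStack (AlgSp.J S) 𝒳)
    (hd : RepByAlgSpWith AlgSp.IsSeparatedMor (_root_.FibCat.diag (_root_.FibCat.toSelf 𝒴)))
    (h : Corr φ T x y) (hc : VertComm y) {X X' : 𝒳.obj} {Y Y' : 𝒴.obj}
    (hA : Adm ι T x X) (hA' : Adm ι T x X') (C : Corr φ (D ι T) X Y) (C' : Corr φ (D ι T) X' Y')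
    {a a' : ι → (x ⟶ x)} (H : HasHol T x X a) (H' : HasHol T x X' a')
    {k k' : ι → (y ⟶ y)} (K : HasHol T y Y k) (K' : HasHol T y Y' k') (f : κ → ι) (hf : Function.Injective f)
    (c₀ : κ) (e₀ : k (f c₀) = k' (f c₀)) (p q : x ⟶ x) (hp : 𝒳.p.map p = 𝟙 _) (hq : 𝒳.p.map q = 𝟙 _)
    (e : ∀ c, a' (f c) = p ≫ a (f c) ≫ q) (c : κ) : k (f c) = k' (f c) := by
  obtain ⟨hxT, hyT, -⟩ := id h
  obtain ⟨Z, μ, hμ⟩ := IsFibGrpd.exists_lift_of_eq hG hA.lies (mp T (map₀D f hf))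
  obtain ⟨Z', μ', hμ'⟩ := IsFibGrpd.exists_lift_of_eq hG hA'.lies (mp T (map₀D f hf))
  have J := (H.pull hG f hf μ hμ).coset hG p q hp hq
  have J' := H'.pull hG f hf μ' hμ'
  rw [show (fun c => a' (f c)) = fun c => p ≫ a (f c) ≫ q from funext e] at J'
  obtain ⟨i, hi⟩ := iso_of_hol_eq hG hst (hA.pull hG f hf μ hμ) (hA'.pull hG f hf μ' hμ') J J'
  obtain ⟨W, hW⟩ := Corr.exists_right φ (IsHomLift.domain_eq 𝒳.p (mp T (map₀D f hf)) μ)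
  obtain ⟨W', hW'⟩ := Corr.exists_right φ (IsHomLift.domain_eq 𝒳.p (mp T (map₀D f hf)) μ')
  obtain ⟨ν, hν⟩ := hW.transfer C _ μ hμ
  obtain ⟨ν', hν'⟩ := hW'.transfer C' _ μ' hμ'
  obtain ⟨j, hj⟩ := hW.transfer hW' _ i hi
  exact congrFun (hol_eq hG' hd hyT hc ((K.pull hG' f hf ν hν).comp j hj) (K'.pull hG' f hf ν' hν') c₀ e₀) c

omit hG hG'

variable (hst : _root_.Stk.IsStack (AlgSp.J S) 𝒳) (hst' : _root_.Stk.IsStack (AlgSp.J S) 𝒴)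
  (hd : RepByAlgSpWith AlgSp.IsSeparatedMor (_root_.FibCat.diag (_root_.FibCat.toSelf 𝒳)))
  (hd' : RepByAlgSpWith AlgSp.IsSeparatedMor (_root_.FibCat.diag (_root_.FibCat.toSelf 𝒴)))

theorem injective_pair {i j : Fin 3} (hij : i ≠ j) : Function.Injective (![i, j] : Fin 2 → Fin 3) := by
  intro a b h
  fin_cases a <;> fin_cases b <;> simp_all [eq_comm]

include hst hst' hd hd'

/-- Commutativity of vertical automorphisms is detected by isomorphism classes. -/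
theorem vertComm_of_corr (h : Corr φ T x y) (hc : VertComm y) : VertComm x := by
  intro a c ha hca
  have hG := hst.1
  have hG' := hst'.1
  obtain ⟨hxT, hyT, -⟩ := id h
  have : IsIso c := (IsFibGrpd.isIso_iff hG c).2 (by rw [hca]; infer_instance)
  have hci := map_inv_vert hca
  obtain ⟨X, hA, H⟩ := exists_twisted hst hxT ![𝟙 x, a, a] (fun i => by fin_cases i <;> simp [ha])
  obtain ⟨X', hA', H'⟩ := exists_twisted hst hxT ![𝟙 x, a, c ≫ a ≫ inv c]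
    (fun i => by fin_cases i <;> simp [ha, hca, hci])
  obtain ⟨Y, C⟩ := Corr.exists_right φ hA.lies
  obtain ⟨Y', C'⟩ := Corr.exists_right φ hA'.lies
  have hB := hA.transfer hG h C
  have hB' := hA'.transfer hG h C'
  obtain ⟨k, K, k0⟩ := exists_hol_normal hG' hB 0
  obtain ⟨k', K', k0'⟩ := exists_hol_normal hG' hB' 0
  have e1 : k 1 = k' 1 := hol_pull_eq hG hG' hst hd' h hc hA hA' C C' H H' K K' ![0, 1]
    (injective_pair (by decide)) 0 (k0.trans k0'.symm) (𝟙 x) (𝟙 x) (𝒳.p.map_id x) (𝒳.p.map_id x)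
    (fun i => by fin_cases i <;> simp) 1
  have e2 : k 2 = k' 2 := hol_pull_eq hG hG' hst hd' h hc hA hA' C C' H H' K K' ![0, 2]
    (injective_pair (by decide)) 0 (k0.trans k0'.symm) c (inv c) hca hci
    (fun i => by fin_cases i <;> simp) 1
  have ek : k = k' := funext fun i => by
    fin_cases i
    · exact k0.trans k0'.symm
    · exact e1
    · exact e2
  subst ek
  obtain ⟨j, hj⟩ := iso_of_hol_eq hG' hst' hB hB' K K'
  obtain ⟨ψ, hψ⟩ := exists_fiso_symm hG hG' φ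
  obtain ⟨i, hi⟩ := (C.symm ψ hψ).transfer (C'.symm ψ hψ) _ j hj
  obtain ⟨p, q, -, -, hpq⟩ := hol_unique hG hd hxT (H.comp i hi) H'
  have q1 : a = p ≫ a ≫ q := by simpa using hpq 1
  have q2 : c ≫ a ≫ inv c = p ≫ a ≫ q := by simpa using hpq 2
  rw [← q1] at q2
  have := congrArg (· ≫ c) q2
  simpa using this.symm

omit hst hst' hd hd'

/-- Automorphisms with corresponding twisted objects on the doubled line with two axes. -/
def Match (φ : _root_.IsoNat.FIso 𝒳 𝒴) (T : Over S) (x : 𝒳.obj) (y : 𝒴.obj) (s : x ⟶ x) (t : y ⟶ y) : Prop :=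
  ∃ X Y, Corr φ (D (Fin 2) T) X Y ∧ Adm (Fin 2) T x X ∧ Adm (Fin 2) T y Y ∧
    HasHol T x X ![𝟙 x, s] ∧ HasHol T y Y ![𝟙 y, t]

theorem Match.symm {s : x ⟶ x} {t : y ⟶ y} (m : Match φ T x y s t) (ψ : _root_.IsoNat.FIso 𝒴 𝒳)
    (hψ : ∀ T, ψ.toEquiv T = (φ.toEquiv T).symm) : Match ψ T y x t s := by
  obtain ⟨X, Y, C, hA, hB, H, K⟩ := m
  exact ⟨Y, X, C.symm ψ hψ, hB, hA, K, H⟩

include hst hst' hd'

theorem Match.exists (h : Corr φ T x y) (s : x ⟶ x) (hs : 𝒳.p.map s = 𝟙 _) :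
    ∃ t : y ⟶ y, 𝒴.p.map t = 𝟙 _ ∧ Match φ T x y s t := by
  obtain ⟨hxT, -, -⟩ := id h
  obtain ⟨X, hA, H⟩ := exists_twisted hst hxT ![𝟙 x, s] (fun i => by fin_cases i <;> simp [hs])
  obtain ⟨Y, C⟩ := Corr.exists_right φ hA.lies
  have hB := hA.transfer hst.1 h C
  obtain ⟨k, K, k0⟩ := exists_hol_normal hst'.1 hB 0
  refine ⟨k 1, K.1 1, X, Y, C, hA, hB, H, ?_⟩
  rwa [show ![𝟙 y, k 1] = k from funext fun i => by fin_cases i <;> simp [k0]]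

theorem Match.unique (h : Corr φ T x y) (hc : VertComm y) {s : x ⟶ x} {t t' : y ⟶ y}
    (m : Match φ T x y s t) (m' : Match φ T x y s t') : t = t' := by
  obtain ⟨hxT, hyT, -⟩ := id h
  obtain ⟨X, Y, C, hA, hB, H, K⟩ := m
  obtain ⟨X', Y', C', hA', hB', H', K'⟩ := m'
  obtain ⟨i, hi⟩ := iso_of_hol_eq hst.1 hst hA hA' H H'
  obtain ⟨j, hj⟩ := C.transfer C' _ i hi
  simpa using congrFun (hol_eq hst'.1 hd' hyT hc (K.comp j hj) K' 0 rfl) 1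

theorem Match.mul (h : Corr φ T x y) (hc : VertComm y) {s₁ s₂ : x ⟶ x} (hs₁ : 𝒳.p.map s₁ = 𝟙 _)
    (hs₂ : 𝒳.p.map s₂ = 𝟙 _) {t₁ t₂ : y ⟶ y} (m₁ : Match φ T x y s₁ t₁) (m₂ : Match φ T x y s₂ t₂) :
    Match φ T x y (s₁ ≫ s₂) (t₁ ≫ t₂) := by
  obtain ⟨hxT, -, -⟩ := id h
  have hG := hst.1
  have hG' := hst'.1
  obtain ⟨X, hA, H⟩ := exists_twisted hst hxT ![𝟙 x, s₁, s₁ ≫ s₂] (fun i => by fin_cases i <;> simp [hs₁, hs₂])
  obtain ⟨Y, C⟩ := Corr.exists_right φ hA.lies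
  have hB := hA.transfer hG h C
  obtain ⟨k, K, k0⟩ := exists_hol_normal hG' hB 0
  have key : ∀ (f : Fin 2 → Fin 3), Function.Injective f → ∀ (s p q : x ⟶ x) (t p' q' : y ⟶ y),
      𝒳.p.map p = 𝟙 _ → 𝒳.p.map q = 𝟙 _ → 𝒴.p.map p' = 𝟙 _ → 𝒴.p.map q' = 𝟙 _ →
      (∀ c, (![𝟙 x, s] : Fin 2 → (x ⟶ x)) c = p ≫ ![𝟙 x, s₁, s₁ ≫ s₂] (f c) ≫ q) →
      (∀ c, (![𝟙 y, t] : Fin 2 → (y ⟶ y)) c = p' ≫ k (f c) ≫ q') → Match φ T x y s t := by
    intro f hf s p q t p' q' hp hq hp' hq' e e'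
    obtain ⟨Z, μ, hμ⟩ := IsFibGrpd.exists_lift_of_eq hG hA.lies (mp T (map₀D f hf))
    obtain ⟨W, hW⟩ := Corr.exists_right φ (IsHomLift.domain_eq 𝒳.p (mp T (map₀D f hf)) μ)
    obtain ⟨ν, hν⟩ := hW.transfer C _ μ hμ
    refine ⟨Z, W, hW, hA.pull hG f hf μ hμ, hB.pull hG' f hf ν hν, ?_, ?_⟩
    · rw [funext e]; exact (H.pull hG f hf μ hμ).coset hG p q hp hq
    · rw [funext e']; exact (K.pull hG' f hf ν hν).coset hG' p' q' hp' hq'
  have : IsIso s₁ := (IsFibGrpd.isIso_iff hG s₁).2 (by rw [hs₁]; infer_instance)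
  have : IsIso (k 1) := (IsFibGrpd.isIso_iff hG' _).2 (by rw [K.1]; infer_instance)
  have r01 : Match φ T x y s₁ (k 1) := key ![0, 1] (injective_pair (by decide)) s₁ (𝟙 x) (𝟙 x) (k 1) (𝟙 y) (𝟙 y)
    (𝒳.p.map_id x) (𝒳.p.map_id x) (𝒴.p.map_id y) (𝒴.p.map_id y)
    (fun i => by fin_cases i <;> simp) (fun i => by fin_cases i <;> simp [k0])
  have r02 : Match φ T x y (s₁ ≫ s₂) (k 2) := key ![0, 2] (injective_pair (by decide)) _ (𝟙 x) (𝟙 x) (k 2) (𝟙 y) (𝟙 y)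
    (𝒳.p.map_id x) (𝒳.p.map_id x) (𝒴.p.map_id y) (𝒴.p.map_id y)
    (fun i => by fin_cases i <;> simp) (fun i => by fin_cases i <;> simp [k0])
  have r12 : Match φ T x y s₂ (inv (k 1) ≫ k 2) := key ![1, 2] (injective_pair (by decide)) _ (inv s₁) (𝟙 x) _
    (inv (k 1)) (𝟙 y) (map_inv_vert hs₁) (𝒳.p.map_id x) (map_inv_vert (K.1 1)) (𝒴.p.map_id y)
    (fun i => by fin_cases i <;> simp) (fun i => by fin_cases i <;> simp)
  rw [Match.unique hst hst' hd' h hc m₁ r01, Match.unique hst hst' hd' h hc m₂ r12, IsIso.hom_inv_id_assoc]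
  exact r02

include hd

/-- Corresponding objects with commuting automorphisms have the same automorphism group. -/
theorem exists_mul_bijection (h : Corr φ T x y) (hc : VertComm y) :
    ∃ F : {a : x ⟶ x // 𝒳.p.map a = 𝟙 _} → {b : y ⟶ y // 𝒴.p.map b = 𝟙 _}, Function.Bijective F ∧
      ∀ s₁ s₂ s₃, s₁.1 ≫ s₂.1 = s₃.1 → (F s₁).1 ≫ (F s₂).1 = (F s₃).1 := by
  have hcx := vertComm_of_corr hst hst' hd hd' h hc
  obtain ⟨ψ, hψ⟩ := exists_fiso_symm hst.1 hst'.1 φ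
  have hψ' : ∀ T, φ.toEquiv T = (ψ.toEquiv T).symm := fun T => by rw [hψ, Equiv.symm_symm]
  choose F hF hM using fun s : {a : x ⟶ x // 𝒳.p.map a = 𝟙 _} => Match.exists hst hst' hd' h s.1 s.2
  refine ⟨fun s => ⟨F s, hF s⟩, ⟨fun s s' e => ?_, fun t => ?_⟩, fun s₁ s₂ s₃ e => ?_⟩
  · have e' : F s = F s' := congrArg Subtype.val e
    exact Subtype.ext (Match.unique hst' hst hd (h.symm ψ hψ) hcx ((hM s).symm ψ hψ) (e' ▸ (hM s').symm ψ hψ))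
  · obtain ⟨s, hs, m⟩ := Match.exists hst' hst hd (h.symm ψ hψ) t.1 t.2
    exact ⟨⟨s, hs⟩, Subtype.ext (Match.unique hst hst' hd' h hc (hM ⟨s, hs⟩) (m.symm φ hψ'))⟩
  · exact Match.unique hst hst' hd' h hc (Match.mul hst hst' hd' h hc s₁.2 s₂.2 (hM s₁) (hM s₂)) (e ▸ hM s₃)

omit hst hst' hd hd'

theorem map_of_fiber_hom {η η' : 𝒳.p.Fiber T} (s : η ⟶ η') :
    𝒳.p.map s.1 = eqToHom η.2 ≫ eqToHom η'.2.symm := by
  have := s.2
  rw [IsHomLift.fac' 𝒳.p (𝟙 T) s.1]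
  simp

/-- Automorphisms in a fibre are the vertical endomorphisms. -/
theorem autCoe_bijective (hG : _root_.FibCat.IsFibGrpd 𝒳.p) (η : 𝒳.p.Fiber T) :
    Function.Bijective (fun s : Aut η =>
      (⟨s.hom.1, by rw [map_of_fiber_hom s.hom, eqToHom_trans, eqToHom_refl]⟩ : {a : η.1 ⟶ η.1 // 𝒳.p.map a = 𝟙 _})) := by
  refine ⟨fun s s' e => Iso.ext (Subtype.ext (Subtype.mk.inj e)), fun a => ?_⟩
  have := IsFibGrpd.isGroupoid_fiber hG T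
  let f : η ⟶ η := ⟨a.1, vert_lift hG η.2 a.2⟩
  exact ⟨asIso f, rfl⟩

theorem vertComm_iff (hG : _root_.FibCat.IsFibGrpd 𝒳.p) (η : 𝒳.p.Fiber T) :
    VertComm η.1 ↔ ∀ s t : Aut η, s * t = t * s := by
  constructor
  · intro h s t
    refine Iso.ext (Functor.Fiber.hom_ext ?_)
    exact h t.hom.1 s.hom.1 (by simp [map_of_fiber_hom]) (by simp [map_of_fiber_hom])
  · intro h a b ha hb
    obtain ⟨s, hs⟩ := (autCoe_bijective hG η).2 ⟨a, ha⟩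
    obtain ⟨t, ht⟩ := (autCoe_bijective hG η).2 ⟨b, hb⟩
    have e : (t.hom ≫ s.hom).1 = (s.hom ≫ t.hom).1 := congrArg (fun i : Aut η => i.hom.1) (h s t)
    obtain rfl : s.hom.1 = a := congrArg Subtype.val hs
    obtain rfl : t.hom.1 = b := congrArg Subtype.val ht
    exact e.symm

include hst hst' hd hd'

theorem isAutAbelian_of_fiso (η : 𝒳.p.Fiber T) (η' : 𝒴.p.Fiber T)
    (hη : φ.toEquiv T (_root_.IsoNat.cls η) = _root_.IsoNat.cls η') (hab : _root_.IsoNat.IsAutAbelian η') :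
    _root_.IsoNat.IsAutAbelian η := by
  intro T' x u
  let g : T' ⟶ T := eqToHom x.2.symm ≫ 𝒳.p.map u ≫ eqToHom η.2
  have hu : 𝒳.p.IsHomLift g u := IsHomLift.of_fac 𝒳.p _ _ x.2 η.2 rfl
  obtain ⟨y, hy⟩ := Corr.exists_right φ x.2
  obtain ⟨v, -⟩ := hy.transfer ⟨η.2, η'.2, hη⟩ g u hu
  obtain ⟨-, hyT, -⟩ := id hy
  refine (vertComm_iff hst.1 x).1 (vertComm_of_corr hst hst' hd hd' hy ?_)
  exact (vertComm_iff hst'.1 ⟨y, hyT⟩).2 (hab T' ⟨y, hyT⟩ v)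

theorem nonempty_aut_mulEquiv (η : 𝒳.p.Fiber T) (η' : 𝒴.p.Fiber T)
    (hη : φ.toEquiv T (_root_.IsoNat.cls η) = _root_.IsoNat.cls η') (hab : _root_.IsoNat.IsAutAbelian η') :
    Nonempty (Aut η ≃* Aut η') := by
  obtain ⟨F, hF, hm⟩ := exists_mul_bijection hst hst' hd hd' (φ := φ) (x := η.1) (y := η'.1) ⟨η.2, η'.2, hη⟩
    ((vertComm_iff hst'.1 η').2 (hab T η' (𝟙 _)))
  let e := Equiv.ofBijective _ (autCoe_bijective hst.1 η)
  let e' := Equiv.ofBijective _ (autCoe_bijective hst'.1 η')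
  let E : Aut η ≃ Aut η' := (e.trans (Equiv.ofBijective F hF)).trans e'.symm
  refine ⟨⟨E, fun s t => ?_⟩⟩
  change E (s * t) = E s * E t
  apply e'.injective
  apply Subtype.ext
  have hE : ∀ r, e' (E r) = F (e r) := fun r => e'.apply_symm_apply _
  rw [hE]
  refine (hm (e t) (e s) (e (s * t)) rfl).symm.trans ?_
  rw [← hE, ← hE]
  rfl

end GrothLib.Axes
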