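import Groth.Agent.Lib.AlgSt.Axes.Classify
import Groth.Agent.Lib.Stk.Twist

/-!
# Objects on the doubled axes with given holonomy
-/

set_option backward.isDefEq.respectTransparency false
set_option backward.isDefEq.respectTransparency.types false

universe u

open CategoryTheory CategoryTheory.Limits AlgebraicGeometry Opposite

namespace GrothLib.Axes

open _root_.AlgSt GrothLib.FibCat GrothLib.AlgSt

variable {S : Scheme.{u}} {𝒳 : _root_.AlgSt.Cat S} {ι : Type} [DecidableEq ι] [Finite ι] {T : Over S}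

variable (ι T) in
/-- The cover by the two charts. -/
noncomputable abbrev chartCov : Sieve (D ι T) := Sieve.ofArrows (fun _ : ULift.{u} Bool => X ι T) (fun c => chart ι T c.down)

/-- The punctured axis over `T`. -/
noncomputable abbrev piece (T : Over S) (i : ι) : Over S := TP T (axOpen.{u} i).toScheme

/-- The punctured axis in the complement of the origin. -/
noncomputable abbrev pieceIncl (T : Over S) (i : ι) : piece T i ⟶ W ι T :=
  mp T ((X₀ ι).homOfLE (axOpen_le i))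

theorem pieceIncl_sn (T : Over S) (i : ι) (y : ↥(piece T i).left) :
    (W₀.{u} ι).ι (sn T _ ((pieceIncl T i).left y)) = (sn T (axOpen.{u} i).toScheme y).1 := by
  have h := congr($(mp_sn T ((X₀.{u} ι).homOfLE (axOpen_le i))) y)
  change sn T _ ((pieceIncl T i).left y) = ((X₀.{u} ι).homOfLE (axOpen_le i)) (sn T _ y) at h
  rw [h]
  exact Scheme.homOfLE_apply _ _

theorem pieceIncl_disjoint (T : Over S) {i j : ι} (h : i ≠ j) (y : ↥(piece T i).left) (z : ↥(piece T j).left) :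
    (pieceIncl T i).left y ≠ (pieceIncl T j).left z := fun e => by
  have h1 := pieceIncl_sn T i y
  rw [e, pieceIncl_sn T j z] at h1
  exact disjoint_axOpen h _ (sn T _ y).2 (h1 ▸ (sn T _ z).2)

theorem pieceIncl_cover (T : Over S) (w : ↥(W ι T).left) : ∃ (i : ι) (y : _), (pieceIncl T i).left y = w := by
  obtain ⟨i, hi⟩ := TopologicalSpace.Opens.mem_iSup.1 (sn T _ w).2
  refine ⟨i, (range_mp T _ w).2 ⟨⟨_, hi⟩, ?_⟩⟩
  exact Subtype.ext (Scheme.homOfLE_apply _ _)

variable {x : 𝒳.obj}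

section Cocycle

variable (hst : _root_.Stk.IsStack (AlgSp.J S) 𝒳) (G : _root_.FibCat.overCat (D ι T) ⥤ᵇ 𝒳)
  (proj : ∀ z, G.obj z ⟶ x) (hproj : ∀ {z' z} (f : z' ⟶ z), G.map f ≫ proj z = proj z')
  (h : ι → (x ⟶ x)) (hh : ∀ i, 𝒳.p.map (h i) = 𝟙 _)

include hst hproj hh

theorem exists_overlap_endo : ∃ α : G.obj (Over.mk (inclW ι T ≫ chart ι T false)) ⟶
      G.obj (Over.mk (inclW ι T ≫ chart ι T false)),
    𝒳.p.map α = 𝟙 _ ∧ ∀ i, G.map (Over.homMk (pieceIncl T i) rfl :
        Over.mk (pieceIncl T i ≫ inclW ι T ≫ chart ι T false) ⟶ Over.mk (inclW ι T ≫ chart ι T false)) ≫ α ≫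
          proj (Over.mk (inclW ι T ≫ chart ι T false)) =
      proj (Over.mk (pieceIncl T i ≫ inclW ι T ≫ chart ι T false)) ≫ h i := by
  let zW : (_root_.FibCat.overCat (D ι T)).obj := Over.mk (inclW ι T ≫ chart ι T false)
  let zP : ULift.{u} ι → (_root_.FibCat.overCat (D ι T)).obj := fun i =>
    Over.mk (pieceIncl T i.down ≫ inclW ι T ≫ chart ι T false)
  let w : ∀ i : ULift.{u} ι, (zP i ⟶ zW) := fun i => Over.homMk (pieceIncl T i.down) rfl
  have hn : ∀ i : ULift.{u} ι, ∃ n : G.obj (zP i) ⟶ G.obj zW,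
      𝒳.p.map n = 𝒳.p.map (G.map (w i)) ∧ n ≫ proj zW = proj (zP i) ≫ h i.down := fun i =>
    exists_vert hst.1 (proj zW) (proj (zP i) ≫ h i.down) (𝒳.p.map (G.map (w i))) (by
      rw [← 𝒳.p.map_comp, hproj (w i), 𝒳.p.map_comp, hh, Category.comp_id])
  choose n hn₁ hn₂ using hn
  obtain ⟨α, hα, hα'⟩ := exists_hom_of_disjoint' hst (a := G.obj zW) (G.w_obj _) (𝟙 _)
    (fun i : ULift.{u} ι => pieceIncl T i.down) _ (fun i => G.map (w i))
    (fun i => have : (_root_.FibCat.overCat (D ι T)).p.IsHomLift (pieceIncl T i.down) (w i) :=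
      IsHomLift.map (_root_.FibCat.overCat (D ι T)).p (w i)
      BasedFunctor.preserves_isHomLift G _ _)
    n (fun i => isOpenImmersion_mp T _)
    (fun z => by obtain ⟨i, y, hy⟩ := pieceIncl_cover T z; exact ⟨⟨i⟩, y, hy⟩)
    (fun i j hij => pieceIncl_disjoint T fun e => hij (ULift.ext _ _ e))
    (fun i => by rw [hn₁, Category.comp_id])
  refine ⟨α, hα, fun i => ?_⟩
  refine (Category.assoc _ _ _).symm.trans ?_
  exact (congrArg (· ≫ proj zW) (hα' ⟨i⟩)).trans (hn₂ ⟨i⟩)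

theorem exists_cocycle : ∃ σ : ∀ z : (_root_.Stk.sieveCat (chartCov ι T)).obj, Aut (G.obj z.obj),
    (∀ z, 𝒳.p.map (σ z).hom = 𝟙 _) ∧
    (∀ {z'' z' : (_root_.Stk.sieveCat (chartCov ι T)).obj} (f : z'' ⟶ z') (l : z'.obj.left ⟶ W ι T),
      l ≫ inclW ι T ≫ chart ι T false = z'.obj.hom → (σ z'').hom ≫ G.map f.hom = G.map f.hom ≫ (σ z').hom) ∧
    (∀ (z : (_root_.Stk.sieveCat (chartCov ι T)).obj) (i : ι) (l : z.obj.left ⟶ piece T i),
      l ≫ pieceIncl T i ≫ inclW ι T ≫ chart ι T false = z.obj.hom →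
        (σ z).hom ≫ proj z.obj = proj z.obj ≫ h i) := by
  have hG := hst.1
  obtain ⟨α, hα, hα'⟩ := exists_overlap_endo hst G proj hproj h hh
  have : Mono (inclW ι T).left := mono_inclW ι T
  have := isOpenImmersion_chart ι T false
  have hmono : ∀ {Z : Over S} (l l' : Z ⟶ W ι T),
      l ≫ inclW ι T ≫ chart ι T false = l' ≫ inclW ι T ≫ chart ι T false → l = l' := fun {Z} l l' e => by
    apply Over.OverMorphism.ext
    have e' := congr($(e).left)
    simp only [Over.comp_left, ← Category.assoc, cancel_mono] at e'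
    exact e'
  have σ0 : ∀ z : (_root_.Stk.sieveCat (chartCov ι T)).obj, ∃ e : Aut (G.obj z.obj), 𝒳.p.map e.hom = 𝟙 _ ∧
      ∀ (l : z.obj.left ⟶ W ι T) (hl : l ≫ inclW ι T ≫ chart ι T false = z.obj.hom),
        e.hom ≫ G.map (Over.homMk l hl : z.obj ⟶ Over.mk (inclW ι T ≫ chart ι T false)) =
          G.map (Over.homMk l hl : z.obj ⟶ Over.mk (inclW ι T ≫ chart ι T false)) ≫ α := fun z => by
    by_cases hz : ∃ l : z.obj.left ⟶ W ι T, l ≫ inclW ι T ≫ chart ι T false = z.obj.hom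
    · obtain ⟨l₀, hl₀⟩ := hz
      obtain ⟨θ, hθ, hθ'⟩ :=
        exists_endo' hG (G.map (Over.homMk l₀ hl₀ : z.obj ⟶ Over.mk (inclW ι T ≫ chart ι T false))) α hα
      have : IsIso θ := (IsFibGrpd.isIso_iff hG θ).2 (by rw [hθ]; infer_instance)
      exact ⟨asIso θ, hθ, fun l hl => by obtain rfl := hmono l l₀ (hl.trans hl₀.symm); exact hθ'⟩
    · exact ⟨1, 𝒳.p.map_id _, fun l hl => (hz ⟨l, hl⟩).elim⟩
  choose σ hσ₁ hσ₂ using σ0
  refine ⟨σ, hσ₁, fun {z'' z'} f l hl => ?_, fun z i l hl => ?_⟩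
  · have hl'' : (f.hom.left ≫ l) ≫ inclW ι T ≫ chart ι T false = z''.obj.hom := by
      rw [Category.assoc, hl]; exact Over.w f.hom
    have e : G.map (Over.homMk (f.hom.left ≫ l) hl'' : z''.obj ⟶ Over.mk (inclW ι T ≫ chart ι T false)) =
        G.map f.hom ≫ G.map (Over.homMk l hl : z'.obj ⟶ Over.mk (inclW ι T ≫ chart ι T false)) := by
      rw [← G.map_comp]; exact congrArg G.map (Over.OverMorphism.ext rfl)
    refine IsFibGrpd.hom_ext' hG (G.map (Over.homMk l hl : z'.obj ⟶ Over.mk (inclW ι T ≫ chart ι T false))) ?_ ?_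
    · rw [𝒳.p.map_comp, 𝒳.p.map_comp, hσ₁, hσ₁, Category.id_comp, Category.comp_id]
    · rw [Category.assoc, Category.assoc, ← e, hσ₂ z'' _ hl'', e, Category.assoc, hσ₂ z' l hl]
  · have hl' : (l ≫ pieceIncl T i) ≫ inclW ι T ≫ chart ι T false = z.obj.hom := by rw [Category.assoc, hl]
    let zW : (_root_.FibCat.overCat (D ι T)).obj := Over.mk (inclW ι T ≫ chart ι T false)
    let g : z.obj ⟶ Over.mk (pieceIncl T i ≫ inclW ι T ≫ chart ι T false) := Over.homMk l hl
    let f₀ : Over.mk (pieceIncl T i ≫ inclW ι T ≫ chart ι T false) ⟶ zW := Over.homMk (pieceIncl T i) rfl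
    have e : G.map (Over.homMk (l ≫ pieceIncl T i) hl' : z.obj ⟶ zW) = G.map g ≫ G.map f₀ := by
      rw [← G.map_comp]; exact congrArg G.map (Over.OverMorphism.ext rfl)
    have k1 : G.map g ≫ G.map f₀ ≫ proj zW = proj z.obj := by rw [hproj, hproj]
    calc (σ z).hom ≫ proj z.obj
        = (σ z).hom ≫ (G.map g ≫ G.map f₀) ≫ proj zW := by rw [Category.assoc, k1]
      _ = (G.map g ≫ G.map f₀) ≫ α ≫ proj zW := by rw [← e, reassoc_of% (hσ₂ z _ hl')]
      _ = G.map g ≫ proj (Over.mk (pieceIncl T i ≫ inclW ι T ≫ chart ι T false)) ≫ h i := by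
          rw [Category.assoc, hα' i]
      _ = proj z.obj ≫ h i := by rw [← Category.assoc, hproj]

end Cocycle

/-- The label of an arrow of the cover. -/
noncomputable def label (z : (_root_.Stk.sieveCat (chartCov ι T)).obj) : ℤ := by
  classical exact if ∃ g : z.obj.left ⟶ X ι T, g ≫ chart ι T false = z.obj.hom then 0 else 1

theorem exists_overlap_of_label_ne {z' z : (_root_.Stk.sieveCat (chartCov ι T)).obj} (g : z' ⟶ z)
    (hne : label z' ≠ label z) : ∃ l : z'.obj.left ⟶ W ι T, l ≫ inclW ι T ≫ chart ι T false = z'.obj.hom := by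
  classical
  obtain ⟨Z, a, _, ⟨b⟩, hb⟩ := z.property
  have hz : ¬ ∃ a : z.obj.left ⟶ X ι T, a ≫ chart ι T false = z.obj.hom := fun ⟨a₀, h₀⟩ => hne (by
    simp only [label]
    rw [if_pos ⟨g.hom.left ≫ a₀, by rw [Category.assoc, h₀]; exact Over.w g.hom⟩, if_pos ⟨a₀, h₀⟩])
  obtain ⟨a', ha'⟩ : ∃ a' : z'.obj.left ⟶ X ι T, a' ≫ chart ι T false = z'.obj.hom := by
    by_contra hz'
    apply hne
    simp only [label]
    rw [if_neg hz, if_neg hz']
  obtain ⟨_ | _⟩ := b
  · exact (hz ⟨a, hb⟩).elim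
  · have hb' : a ≫ chart ι T true = z.obj.hom := hb
    have e : a' ≫ chart ι T false = (g.hom.left ≫ a) ≫ chart ι T true := by
      rw [ha', Category.assoc, hb']; exact (Over.w g.hom).symm
    obtain ⟨-, l, hl⟩ := overlap_chart ι T a' _ e
    exact ⟨l, by rw [← Category.assoc, hl, ha']⟩

theorem isEmpty_of_chart_factor [Nonempty ι] (g : X ι T ⟶ X ι T) (hg : g ≫ chart ι T false = chart ι T true) :
    IsEmpty ↥T.left := by
  obtain ⟨i₀⟩ := (inferInstance : Nonempty ι)
  obtain ⟨e, l, hl⟩ := overlap_chart ι T g (𝟙 _) (hg.trans (Category.id_comp _).symm)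
  refine ⟨fun p => ?_⟩
  let q := (sec T (zero₀ ≫ ax₀.{u} i₀)).left p
  have h1 : sn T (X₀ ι) q = ax₀ i₀ (zero₀ (toZ T.left p)) := congr($(lift_sn (𝟙 T) (toZ T.left ≫ zero₀ ≫ ax₀ i₀)) p)
  have h2 : sn T (X₀ ι) q ∈ W₀ ι := by
    have hq : (inclW ι T).left (l.left q) = q := congr(($(hl.trans e).left) q)
    have := congr($(mp_sn T (W₀.{u} ι).ι) (l.left q))
    change sn T (X₀ ι) ((inclW ι T).left (l.left q)) = (W₀.{u} ι).ι (sn T _ (l.left q)) at this
    rw [hq] at this
    rw [this]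
    exact (sn T _ (l.left q)).2
  obtain ⟨i, hi⟩ := TopologicalSpace.Opens.mem_iSup.1 h2
  rw [h1] at hi
  exact zero₀_not_mem i i₀ _ hi

/-- Every family of automorphisms is a holonomy. -/
theorem exists_twisted (hst : _root_.Stk.IsStack (AlgSp.J S) 𝒳) [Nonempty ι] (hxT : 𝒳.p.obj x = T)
    (h : ι → (x ⟶ x)) (hh : ∀ i, 𝒳.p.map (h i) = 𝟙 _) : ∃ y, Adm ι T x y ∧ HasHol T x y h := by
  have hG := hst.1
  obtain ⟨Gx, eX, heX⟩ := Yon.exists_functor hG x hxT
  let q : D ι T ⟶ T := pr T (D₀ ι)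
  let G := BasedFunctor.comp (GrothLib.FibCat.overMap q) Gx
  let qz : ∀ z : (_root_.FibCat.overCat (D ι T)).obj, (GrothLib.FibCat.overMap q).obj z ⟶ Yon.idObj T :=
    fun z => Yon.toId _
  let proj : ∀ z, G.obj z ⟶ x := fun z => Gx.map (qz z) ≫ eX.hom
  have hproj : ∀ {z' z} (f : z' ⟶ z), G.map f ≫ proj z = proj z' := fun {z' z} f => by
    change Gx.map ((GrothLib.FibCat.overMap q).map f) ≫ Gx.map (qz z) ≫ eX.hom = Gx.map (qz z') ≫ eX.hom
    rw [← Gx.map_comp_assoc]
    exact congrArg (fun t => Gx.map t ≫ eX.hom) (Yon.map_comp_toId _)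
  have hprojl : ∀ z : (_root_.FibCat.overCat (D ι T)).obj, 𝒳.p.IsHomLift (z.hom ≫ q) (proj z) := fun z => by
    have := heX
    have : (_root_.FibCat.overCat T).p.IsHomLift (z.hom ≫ q) (qz z) := Yon.toId_lift _
    exact IsHomLift.comp_lift_id_right' 𝒳.p _ (Gx.map (qz z)) T eX.hom
  obtain ⟨σ, hσ₁, hσ₂, hσ₃⟩ := exists_cocycle hst G proj hproj h hh
  have hσl : ∀ z, 𝒳.p.IsHomLift (𝟙 ((_root_.Stk.sieveCat (chartCov ι T)).p.obj z)) (σ z).hom := fun z =>
    IsHomLift.of_fac' 𝒳.p _ _ (G.w_obj z.obj) (G.w_obj z.obj) (by rw [hσ₁]; simp)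
  let c := GrothLib.Stk.Twist.functor (BasedFunctor.comp (_root_.Stk.sieveIncl (chartCov ι T)) G) σ hσl label
    (fun {z'' z'} f z g hne => by
      obtain ⟨l, hl⟩ := exists_overlap_of_label_ne g hne
      exact hσ₂ f l hl)
  have hcov : chartCov ι T ∈ AlgSp.J S (D ι T) :=
    ofArrows_two_mem _ _ (fun c => isOpenImmersion_chart ι T c.down) fun t => by
      obtain ⟨c, y, hy⟩ := cover_chart ι T t
      exact ⟨⟨c⟩, y, hy⟩
  have hes : (_root_.Stk.resSieve (chartCov ι T) 𝒳).EssSurj := by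
    have := hst.2 (chartCov ι T) hcov
    unfold _root_.Stk.IsStackFor at this
    infer_instance
  obtain ⟨y, hy, m, hm, hm'⟩ := GrothLib.Stk.Descent.exists_cocone hG hes c
  let zc : Bool → (_root_.Stk.sieveCat (chartCov ι T)).obj := fun b =>
    GrothLib.Stk.arrowObj (chart ι T b) (Sieve.ofArrows_mk _ (fun b : ULift.{u} Bool => chart ι T b.down) ⟨b⟩)
  have hzc : ∀ b, 𝒳.p.IsHomLift (pr T (X₀ ι)) (proj (zc b).obj) := fun b => by
    have h1 := hprojl (zc b).obj
    rwa [show (zc b).obj.hom ≫ q = pr T (X₀ ι) from mp_pr T _] at h1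
  have hmc : ∀ b, 𝒳.p.IsHomLift (chart ι T b) (m (zc b)) := fun b => hm (zc b)
  obtain ⟨zL, uL, huL⟩ := IsFibGrpd.exists_lift_of_eq hG hxT (pr T (D₀.{u} Unit))
  obtain ⟨zU, uU, huU⟩ := IsFibGrpd.exists_lift_of_eq hG hxT (pr T (X₀.{u} Unit))
  have hκ : ∀ b, ∃ κ : zU ⟶ zL, 𝒳.p.IsHomLift (chart Unit T b) κ ∧ κ ≫ uL = uU := fun b =>
    exists_over hG _ _ uL huL uU (by rw [mp_pr]; exact huU)
  choose κ hκ hκu using hκ
  have hr : ∀ (b : Bool) (i : ι), ∃ r : zU ⟶ G.obj (zc b).obj,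
      𝒳.p.IsHomLift (mp T (map₀X (fun _ : Unit => i) (inj_unit i))) r ∧ r ≫ proj (zc b).obj = uU := fun b i =>
    exists_over hG _ _ (proj (zc b).obj) (hzc b) uU (by rw [mp_pr]; exact huU)
  choose r hr hru using hr
  choose Hb hHb₁ hHb₂ using fun i => exists_endo' hG uU (h i) (hh i)
  obtain ⟨eU, heU, heUu⟩ := exists_over hG (sec T (zero₀ ≫ ax₀ (ι := Unit) ())) _ uU huU (𝟙 x)
    (by rw [sec_pr]; exact IsHomLift.id hxT)
  obtain ⟨i₀⟩ := (inferInstance : Nonempty ι)
  have hline : ∀ i : ι, ∃ v : zL ⟶ y, 𝒳.p.IsHomLift (Axes.line T i) v ∧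
      κ false ≫ v = r false i ≫ m (zc false) ∧ κ true ≫ v = Hb i ≫ r true i ≫ m (zc true) := by
    intro i
    have hHl : 𝒳.p.IsHomLift (𝟙 (X Unit T)) (Hb i) :=
      IsHomLift.of_fac' 𝒳.p _ _ (IsHomLift.domain_eq 𝒳.p (pr T (X₀ Unit)) uU)
        (IsHomLift.domain_eq 𝒳.p (pr T (X₀ Unit)) uU) (by simp [hHb₁])
    let n : ∀ b : Bool, zU ⟶ y := fun b => match b with
      | false => r false i ≫ m (zc false)
      | true => Hb i ≫ r true i ≫ m (zc true)
    have hnl : ∀ b, 𝒳.p.IsHomLift (chart Unit T b ≫ Axes.line T i) (n b) := fun b => by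
      rw [show chart Unit T b ≫ Axes.line T i = mp T (map₀X (fun _ : Unit => i) (inj_unit i)) ≫ chart ι T b from
        chart_map _ _ b]
      have := hr b i
      have := hmc b
      have h1 : 𝒳.p.IsHomLift (mp T (map₀X (fun _ : Unit => i) (inj_unit i)) ≫ chart ι T b) (r b i ≫ m (zc b)) :=
        inferInstance
      cases b
      · exact h1
      · exact IsHomLift.comp_lift_id_left' 𝒳.p (X Unit T) (Hb i) _ _
    have hzL := IsHomLift.domain_eq 𝒳.p (pr T (D₀ Unit)) uL
    obtain ⟨v, hv, hv'⟩ := exists_hom_charts hst (a := zL) (b := y) hzL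
      (eqToHom hzL ≫ Axes.line T i ≫ eqToHom hy.symm) (fun _ => zU) κ hκ n (fun b => by
        rw [IsHomLift.fac' 𝒳.p (chart Unit T b ≫ Axes.line T i) (n b), IsHomLift.fac' 𝒳.p (chart Unit T b) (κ b)]
        simp) (by
      intro _ a' Z k k' g hg hk hk' e
      have hkk : k = k' := over_unique hG _ uU huU hk hk' (by
        have := congrArg (· ≫ uL) e
        simpa only [Category.assoc, hκu] using this)
      subst hkk
      let gi : Z ⟶ X ι T := g ≫ mp T (ax₀ i)
      have hgi : ∀ p, sn T (X₀ ι) (gi.left p) ∈ axOpen i := fun p => by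
        have := congr($(mp_sn T (ax₀ (ι := ι) i)) (g.left p))
        change sn T (X₀ ι) ((mp T (ax₀ i)).left (g.left p)) = ax₀ i (sn T A₀ (g.left p)) at this
        change sn T (X₀ ι) ((mp T (ax₀ i)).left (g.left p)) ∈ _
        rw [this]
        exact lineOpen_le i (hg p)
      have hsub : Set.range (gi.left ≫ sn T (X₀ ι)) ⊆ Set.range (axOpen.{u} i).ι := by
        rintro _ ⟨p, rfl⟩
        rw [Scheme.Opens.range_ι]
        exact hgi p
      let lp : Z ⟶ piece T i := lift (gi ≫ pr T (X₀ ι)) (IsOpenImmersion.lift (axOpen.{u} i).ι _ hsub)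
      have hlp : lp ≫ pieceIncl T i ≫ inclW ι T = gi := by
        rw [mp_comp]
        refine tp_ext (by rw [Category.assoc, mp_pr, lift_pr]) ?_
        rw [Over.comp_left, Category.assoc, mp_sn, lift_sn_assoc, Scheme.homOfLE_ι, IsOpenImmersion.lift_fac]
      have hb : ∀ b, gi ≫ chart ι T b = gi ≫ chart ι T false := fun b => by
        rw [← hlp]; simp only [Category.assoc, inclW_chart ι T b false]
      let zA : (_root_.Stk.sieveCat (chartCov ι T)).obj := GrothLib.Stk.arrowObj (gi ≫ chart ι T false)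
        ⟨_, gi, chart ι T false, Presieve.ofArrows.mk (f := fun b : ULift.{u} Bool => chart ι T b.down) ⟨false⟩, rfl⟩
      let gc : ∀ b, zA ⟶ zc b := fun b => ObjectProperty.homMk (Over.homMk gi (hb b))
      obtain ⟨μ, hμ, hμp⟩ := exists_over hG (𝟙 Z) _ (proj zA.obj) (hprojl zA.obj) (k ≫ uU) (by
        have : 𝒳.p.IsHomLift ((g ≫ mp T (ax₀ ())) ≫ pr T (X₀ Unit)) (k ≫ uU) := inferInstance
        rw [Category.id_comp]
        rw [show zA.obj.hom ≫ q = (g ≫ mp T (ax₀ ())) ≫ pr T (X₀ Unit) by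
          change (gi ≫ chart ι T false) ≫ pr T (D₀ ι) = _
          simp [gi, mp_pr]]
        exact this)
      have hkr : ∀ b, k ≫ r b i = μ ≫ G.map (gc b).hom := fun b => by
        have := hr b i
        have h3 : (_root_.FibCat.overCat (D ι T)).p.IsHomLift gi (gc b).hom :=
          IsHomLift.map (_root_.FibCat.overCat (D ι T)).p (gc b).hom
        have h4 : 𝒳.p.IsHomLift gi (μ ≫ G.map (gc b).hom) := IsHomLift.comp_lift_id_left' 𝒳.p Z μ _ _
        refine over_unique hG _ (proj (zc b).obj) (hzc b) ?_ h4 (by rw [Category.assoc, hru, Category.assoc, hproj, hμp])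
        have e1 : (g ≫ mp T (ax₀ ())) ≫ mp T (map₀X (fun _ : Unit => i) (inj_unit i)) = gi := by
          rw [Category.assoc, mp_comp, ax₀_map₀X]
        rw [← e1]; infer_instance
      have hσA : (σ zA).hom ≫ proj zA.obj = proj zA.obj ≫ h i :=
        hσ₃ zA i lp (by rw [reassoc_of% hlp]; rfl)
      have hlab : label zA = 0 ∧ label (zc false) = 0 := by
        classical exact ⟨if_pos ⟨gi, rfl⟩, if_pos ⟨𝟙 _, Category.id_comp _⟩⟩
      have hm0 : G.map (gc false).hom ≫ m (zc false) = m zA := by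
        rw [← hm' (gc false)]
        change _ = ((σ zA ^ (label (zc false) - label zA)).hom ≫ G.map (gc false).hom) ≫ m (zc false)
        rw [hlab.1, hlab.2, sub_self, zpow_zero]
        exact congrArg (· ≫ m (zc false)) (Category.id_comp _).symm
      have hm1 : k ≫ Hb i ≫ r true i ≫ m (zc true) = μ ≫ m zA := by
        rw [← hm' (gc true)]
        change _ = μ ≫ ((σ zA ^ (label (zc true) - label zA)).hom ≫ G.map (gc true).hom) ≫ m (zc true)
        have key : k ≫ Hb i ≫ r true i = μ ≫ (σ zA ^ (label (zc true) - label zA)).hom ≫ G.map (gc true).hom := by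
          refine vert_ext hG (proj (zc true).obj) ?_ ?_
          · rw [𝒳.p.map_comp, 𝒳.p.map_comp, hHb₁, Category.id_comp, ← 𝒳.p.map_comp, hkr, 𝒳.p.map_comp, 𝒳.p.map_comp,
              𝒳.p.map_comp]
            have hσz : 𝒳.p.map ((σ zA ^ (label (zc true) - label zA)).hom) = 𝟙 _ := by
              have := GrothLib.Stk.Twist.isHomLift_zpow (BasedFunctor.comp (_root_.Stk.sieveIncl (chartCov ι T)) G) σ zA
                (hσl zA) (label (zc true) - label zA)
              rw [IsHomLift.fac' 𝒳.p (𝟙 ((_root_.Stk.sieveCat (chartCov ι T)).p.obj zA))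
                ((σ zA ^ (label (zc true) - label zA)).hom)]
              simp
            rw [hσz]
            exact congrArg (𝒳.p.map μ ≫ ·) (Category.id_comp _).symm
          · simp only [Category.assoc, hru, hproj]
            rw [hHb₂, hlab.1, sub_zero]
            rcases isEmpty_or_nonempty ↥T.left with he | hne
            · have : IsEmpty ↥(𝒳.p.obj x).left := by rw [hxT]; exact he
              have hh1 : h i = 𝟙 x := hom_eq_of_isEmpty hst _ _ (by rw [hh, 𝒳.p.map_id])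
              rw [hh1, Category.comp_id] at hσA ⊢
              unfold label
              split_ifs
              · rw [zpow_zero]; exact (congrArg (μ ≫ ·) (Category.id_comp _)).trans hμp |>.symm
              · rw [zpow_one, hσA]; exact hμp.symm
            · have : label (zc true) = 1 := by
                classical exact if_neg fun ⟨a, ha⟩ => (isEmpty_of_chart_factor a ha).false hne.some
              rw [this, zpow_one, hσA, ← Category.assoc μ, hμp, Category.assoc]
        rw [← Category.assoc (k), ← Category.assoc (k ≫ Hb i), Category.assoc k, key]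
        simp only [Category.assoc]
      change k ≫ r false i ≫ m (zc false) = k ≫ Hb i ≫ r true i ≫ m (zc true)
      rw [hm1, ← Category.assoc, hkr, Category.assoc, hm0])
    exact ⟨v, IsHomLift.of_fac' 𝒳.p _ _ hzL hy hv, hv' false, hv' true⟩
  choose v hv hv0 hv1 using hline
  refine ⟨y, ⟨hy, fun b => ⟨_, proj (zc b).obj, m (zc b), hzc b, hmc b⟩, fun i => ⟨zL, uL, v i, huL, hv i⟩⟩,
    hh, eU ≫ r false i₀ ≫ m (zc false), eU ≫ r true i₀ ≫ m (zc true), fun i => ?_⟩
  have := heU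
  have := hκ
  have hE : ∀ b, eU ≫ r b i = eU ≫ r b i₀ := fun b => by
    have := hr b i
    have := hr b i₀
    have h1 : 𝒳.p.IsHomLift (sec T (zero₀ ≫ ax₀ ()) ≫ mp T (map₀X (fun _ : Unit => i) (inj_unit i))) (eU ≫ r b i) :=
      inferInstance
    have h2 : 𝒳.p.IsHomLift (sec T (zero₀ ≫ ax₀ ()) ≫ mp T (map₀X (fun _ : Unit => i₀) (inj_unit i₀))) (eU ≫ r b i₀) :=
      inferInstance
    rw [sec_mp, Category.assoc, ax₀_map₀X] at h1 h2
    rw [zero₀_ax₀ i i₀] at h1
    exact over_unique hG _ _ (hzc b) h1 h2 (by simp [hru])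
  have heH : eU ≫ Hb i = h i ≫ eU := by
    have hHl : 𝒳.p.IsHomLift (𝟙 (X Unit T)) (Hb i) :=
      IsHomLift.of_fac' 𝒳.p _ _ (IsHomLift.domain_eq 𝒳.p (pr T (X₀ Unit)) uU)
        (IsHomLift.domain_eq 𝒳.p (pr T (X₀ Unit)) uU) (by simp [hHb₁])
    have := vert_lift hG hxT (hh i)
    exact over_unique hG _ uU huU
      (IsHomLift.comp_lift_id_right' 𝒳.p (sec T (zero₀ ≫ ax₀ (ι := Unit) ())) eU (X Unit T) (Hb i))
      (IsHomLift.comp_lift_id_left' 𝒳.p T (h i) (sec T (zero₀ ≫ ax₀ (ι := Unit) ())) eU)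
      (by rw [Category.assoc, hHb₂, reassoc_of% heUu, Category.assoc, heUu, Category.comp_id])
  have he : ∀ b, 𝒳.p.IsHomLift (lineOrigin T b) (eU ≫ κ b) := fun b => by
    have := hκ b
    have h1 : 𝒳.p.IsHomLift (sec T (zero₀ ≫ ax₀ ()) ≫ chart Unit T b) (eU ≫ κ b) := inferInstance
    rwa [sec_mp, Category.assoc] at h1
  refine ⟨zL, uL, v i, eU ≫ κ false, eU ≫ κ true, huL, hv i, he false, he true,
    by rw [Category.assoc, hκu, heUu], by rw [Category.assoc, hκu, heUu], ?_, ?_⟩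
  · rw [Category.assoc, hv0, reassoc_of% (hE false)]
  · rw [Category.assoc, hv1, reassoc_of% heH, reassoc_of% (hE true)]

end GrothLib.Axes
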